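import Mathlib

/-!
# Sections of unramified algebras modulo an ideal

Let `A` be a ring, `I` an ideal, `R'` a formally unramified `A`-algebra of finite type and
`ψ : R' →ₐ[A] A ⧸ I` an `A`-algebra map.  Then there is `a : R'` with `ψ a = 1` such that for
`A' = R'[1/a]` the map `A ⧸ I → A' ⧸ I A'` is bijective (with inverse induced by `ψ`).
-/

set_option linter.style.haveILetI false

namespace Groth.Agent.Helper26.EtaleSection

universe u

variable {A : Type u} [CommRing A] (I : Ideal A) {R' : Type u} [CommRing R'] [Algebra A R']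

/-- The kernel of an `A`-algebra map `R' → A ⧸ I` from a formally unramified algebra is
idempotent modulo `I R'`. -/
theorem ker_le_sq_sup [Algebra.FormallyUnramified A R'] (ψ : R' →ₐ[A] A ⧸ I) :
    RingHom.ker ψ ≤ (RingHom.ker ψ) ^ 2 ⊔ I.map (algebraMap A R') := by
  set J := RingHom.ker ψ with hJ
  set K := J ^ 2 ⊔ I.map (algebraMap A R') with hK
  let N : Ideal (R' ⧸ K) := J.map (Ideal.Quotient.mk K)
  have hN : IsNilpotent N := by
    refine ⟨2, ?_⟩
    rw [← Ideal.map_pow, Ideal.zero_eq_bot, Ideal.map_eq_bot_iff_le_ker, Ideal.mk_ker]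
    exact le_sup_left
  have hIK : ∀ a ∈ I, algebraMap A (R' ⧸ K) a = 0 := by
    intro a ha
    rw [IsScalarTower.algebraMap_apply A R' (R' ⧸ K), Ideal.Quotient.algebraMap_eq,
      Ideal.Quotient.eq_zero_iff_mem]
    exact le_sup_right (a := J ^ 2) (Ideal.mem_map_of_mem _ ha)
  let ι : A ⧸ I →ₐ[A] R' ⧸ K := Ideal.Quotient.liftₐ I (Algebra.ofId A (R' ⧸ K)) hIK
  let π : R' →ₐ[A] R' ⧸ K := Ideal.Quotient.mkₐ A K
  let σ : R' →ₐ[A] R' ⧸ K := ι.comp ψ
  have key : π = σ := by
    refine Algebra.FormallyUnramified.ext N hN fun x => ?_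
    obtain ⟨a, ha⟩ := Ideal.Quotient.mk_surjective (ψ x)
    rw [← sub_eq_zero, ← map_sub, Ideal.Quotient.eq_zero_iff_mem]
    have h1 : σ x = Ideal.Quotient.mk K (algebraMap A R' a) := by
      change ι (ψ x) = _
      rw [← ha]
      rfl
    have h2 : π x - σ x = Ideal.Quotient.mk K (x - algebraMap A R' a) := by
      rw [h1, map_sub]; rfl
    rw [h2]
    refine Ideal.mem_map_of_mem _ ?_
    rw [hJ, RingHom.mem_ker, map_sub, AlgHom.commutes, ← ha, Ideal.Quotient.algebraMap_eq,
      sub_self]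
  intro x hx
  have h3 : π x = 0 := by
    rw [key]
    change ι (ψ x) = 0
    rw [show ψ x = 0 from hx, map_zero]
  exact Ideal.Quotient.eq_zero_iff_mem.mp h3

/-- The kernel of an `A`-algebra map `R' → A ⧸ I` from a finite type algebra is finitely
generated modulo `I R'`. -/
theorem exists_finset_ker [Algebra.FiniteType A R'] (ψ : R' →ₐ[A] A ⧸ I) :
    ∃ s : Finset R', (↑s : Set R') ⊆ RingHom.ker ψ ∧
      RingHom.ker ψ ≤ Ideal.span (s : Set R') ⊔ I.map (algebraMap A R') := by
  obtain ⟨t, ht⟩ := (Algebra.FiniteType.out : (⊤ : Subalgebra A R').FG)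
  classical
  choose c hc using fun x : R' => Ideal.Quotient.mk_surjective (ψ x)
  let s : Finset R' := t.image fun x => x - algebraMap A R' (c x)
  have hs : (↑s : Set R') ⊆ RingHom.ker ψ := by
    intro y hy
    simp only [s, Finset.coe_image, Set.mem_image] at hy
    obtain ⟨x, -, rfl⟩ := hy
    change ψ _ = 0
    rw [map_sub, AlgHom.commutes, Ideal.Quotient.algebraMap_eq, hc, sub_self]
  refine ⟨s, hs, ?_⟩
  set J₀ := Ideal.span (s : Set R') ⊔ I.map (algebraMap A R') with hJ₀
  have hall : ∀ x : R', ∃ a : A, x - algebraMap A R' a ∈ J₀ := by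
    intro x
    have hx : x ∈ Algebra.adjoin A (t : Set R') := by rw [ht]; trivial
    induction hx using Algebra.adjoin_induction with
    | mem x hx =>
      refine ⟨c x, le_sup_left (b := I.map (algebraMap A R')) (Ideal.subset_span ?_)⟩
      simp only [s, Finset.coe_image]
      exact ⟨x, hx, rfl⟩
    | algebraMap r => exact ⟨r, by simp⟩
    | add x y _ _ hx hy =>
      obtain ⟨a, ha⟩ := hx
      obtain ⟨b, hb⟩ := hy
      refine ⟨a + b, ?_⟩
      have : x + y - algebraMap A R' (a + b) =
          (x - algebraMap A R' a) + (y - algebraMap A R' b) := by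
        rw [map_add]; ring
      rw [this]
      exact J₀.add_mem ha hb
    | mul x y _ _ hx hy =>
      obtain ⟨a, ha⟩ := hx
      obtain ⟨b, hb⟩ := hy
      refine ⟨a * b, ?_⟩
      have : x * y - algebraMap A R' (a * b) =
          (x - algebraMap A R' a) * y + algebraMap A R' a * (y - algebraMap A R' b) := by
        rw [map_mul]; ring
      rw [this]
      exact J₀.add_mem (J₀.mul_mem_right _ ha) (J₀.mul_mem_left _ hb)
  have hJ₀le : J₀ ≤ RingHom.ker ψ := by
    refine sup_le (Ideal.span_le.mpr hs) ?_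
    rw [Ideal.map_le_iff_le_comap]
    intro i hi
    change ψ (algebraMap A R' i) = 0
    rw [AlgHom.commutes, Ideal.Quotient.algebraMap_eq, Ideal.Quotient.eq_zero_iff_mem]
    exact hi
  intro x hx
  obtain ⟨a, ha⟩ := hall x
  have h1 : algebraMap A R' a ∈ RingHom.ker ψ := by
    have := (RingHom.ker ψ).sub_mem hx (hJ₀le ha)
    simpa using this
  have h2 : a ∈ I := by
    have : ψ (algebraMap A R' a) = 0 := h1
    rwa [AlgHom.commutes, Ideal.Quotient.algebraMap_eq, Ideal.Quotient.eq_zero_iff_mem] at this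
  have h3 : algebraMap A R' a ∈ J₀ :=
    le_sup_right (a := Ideal.span (s : Set R')) (Ideal.mem_map_of_mem _ h2)
  have : x = (x - algebraMap A R' a) + algebraMap A R' a := by ring
  rw [this]
  exact J₀.add_mem ha h3

/-- There is `a` with `ψ a = 1` and `a • ker ψ ⊆ I R'`. -/
theorem exists_mul_mem [Algebra.FormallyUnramified A R'] [Algebra.FiniteType A R']
    (ψ : R' →ₐ[A] A ⧸ I) :
    ∃ a : R', ψ a = 1 ∧ ∀ x ∈ RingHom.ker ψ, a * x ∈ I.map (algebraMap A R') := by
  obtain ⟨s, hs, hsle⟩ := exists_finset_ker I ψ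
  have hsq := ker_le_sq_sup I ψ
  set J := RingHom.ker ψ with hJ
  set IR := I.map (algebraMap A R') with hIR
  let mk := Ideal.Quotient.mk IR
  let Jb : Ideal (R' ⧸ IR) := J.map mk
  have hIRbot : IR.map mk = ⊥ := by
    rw [Ideal.map_eq_bot_iff_le_ker, Ideal.mk_ker]
  have hfg : Jb.FG := by
    have : Jb = (Ideal.span (s : Set R')).map mk := by
      apply le_antisymm
      · refine (Ideal.map_mono hsle).trans ?_
        rw [Ideal.map_sup, hIRbot]
        exact sup_le le_rfl bot_le
      · exact Ideal.map_mono (Ideal.span_le.mpr hs)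
    rw [this]
    exact Ideal.FG.map ⟨s, rfl⟩ _
  have hidem : IsIdempotentElem Jb := by
    change Jb * Jb = Jb
    apply le_antisymm Ideal.mul_le_right
    rw [← pow_two, ← Ideal.map_pow]
    refine (Ideal.map_mono hsq).trans ?_
    rw [Ideal.map_sup, hIRbot]
    exact sup_le le_rfl bot_le
  obtain ⟨e, he, hJe⟩ := (Ideal.isIdempotentElem_iff_of_fg Jb hfg).mp hidem
  have hJe' : Jb = Ideal.span {e} := hJe
  have heJ : e ∈ Jb := by rw [hJe']; exact Ideal.mem_span_singleton_self e
  obtain ⟨j, hj, rfl⟩ := (Ideal.mem_map_iff_of_surjective mk Ideal.Quotient.mk_surjective).mp heJ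
  refine ⟨1 - j, ?_, ?_⟩
  · rw [map_sub, map_one, show ψ j = 0 from hj, sub_zero]
  · intro x hx
    have hxJ : mk x ∈ Jb := Ideal.mem_map_of_mem _ hx
    rw [hJe'] at hxJ
    obtain ⟨b, hb⟩ := Ideal.mem_span_singleton'.mp hxJ
    rw [← Ideal.Quotient.eq_zero_iff_mem]
    change mk ((1 - j) * x) = 0
    rw [map_mul, ← hb, map_sub, map_one]
    have hjj : mk j * mk j = mk j := he
    calc (1 - mk j) * (b * mk j) = b * (mk j - mk j * mk j) := by ring
      _ = 0 := by rw [hjj, sub_self, mul_zero]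

/-- **Section lemma.** For a formally unramified finite type `A`-algebra `R'` with an `A`-algebra
map `ψ : R' → A ⧸ I`, there is `a : R'` with `ψ a = 1` such that `A ⧸ I → R'[1/a] ⧸ I R'[1/a]`
is bijective, with inverse induced by (the extension of) `ψ`. -/
theorem exists_away [Algebra.FormallyUnramified A R'] [Algebra.FiniteType A R']
    (ψ : R' →ₐ[A] A ⧸ I) :
    ∃ a : R', ψ a = 1 ∧ ∃ ψ' : Localization.Away a →ₐ[A] A ⧸ I,
      (∀ x, ψ' (algebraMap R' (Localization.Away a) x) = ψ x) ∧
      Function.Bijective (algebraMap (A ⧸ I)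
        (Localization.Away a ⧸ I.map (algebraMap A (Localization.Away a)))) ∧
      ∀ y, algebraMap (A ⧸ I)
        (Localization.Away a ⧸ I.map (algebraMap A (Localization.Away a))) (ψ' y) =
          Ideal.Quotient.mk _ y := by
  obtain ⟨a, ha1, ha⟩ := exists_mul_mem I ψ
  refine ⟨a, ha1, ?_⟩
  have hu : IsUnit (ψ a) := by rw [ha1]; exact isUnit_one
  let ψ' : Localization.Away a →ₐ[A] A ⧸ I := IsLocalization.Away.liftAlgHom a hu
  have hψ' : ∀ x, ψ' (algebraMap R' (Localization.Away a) x) = ψ x := fun x => by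
    simp [ψ']
  set IA' := I.map (algebraMap A (Localization.Away a)) with hIA'
  have hmapmap : (I.map (algebraMap A R')).map (algebraMap R' (Localization.Away a)) = IA' := by
    rw [Ideal.map_map, ← IsScalarTower.algebraMap_eq]
  have hker : RingHom.ker ψ' ≤ IA' := by
    intro z hz
    obtain ⟨n, x, hx⟩ := IsLocalization.Away.surj a z
    have hxJ : x ∈ RingHom.ker ψ := by
      change ψ x = 0
      rw [← hψ', ← hx, map_mul, show ψ' z = 0 from hz, zero_mul]
    have h1 : algebraMap R' (Localization.Away a) (a * x) ∈ IA' := by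
      rw [← hmapmap]; exact Ideal.mem_map_of_mem _ (ha x hxJ)
    have hua : IsUnit (algebraMap R' (Localization.Away a) a) :=
      IsLocalization.Away.algebraMap_isUnit a
    rw [map_mul, ← hx] at h1
    have h2 : z * (algebraMap R' (Localization.Away a) a) ^ (n + 1) ∈ IA' := by
      rw [pow_succ]; convert h1 using 1; ring
    exact (Ideal.mul_unit_mem_iff_mem IA' (hua.pow (n + 1))).mp h2
  have hIA'ker : IA' ≤ RingHom.ker ψ' := by
    rw [hIA', Ideal.map_le_iff_le_comap]
    intro i hi
    change ψ' (algebraMap A (Localization.Away a) i) = 0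
    rw [AlgHom.commutes, Ideal.Quotient.algebraMap_eq, Ideal.Quotient.eq_zero_iff_mem]
    exact hi
  have hlast : ∀ y, algebraMap (A ⧸ I) (Localization.Away a ⧸ IA') (ψ' y) =
      Ideal.Quotient.mk _ y := by
    intro y
    obtain ⟨c, hc⟩ := Ideal.Quotient.mk_surjective (ψ' y)
    rw [← hc]
    change Ideal.Quotient.mk IA' (algebraMap A (Localization.Away a) c) = _
    symm
    rw [Ideal.Quotient.eq]
    apply hker
    change ψ' (y - algebraMap A (Localization.Away a) c) = 0
    rw [map_sub, AlgHom.commutes, Ideal.Quotient.algebraMap_eq, hc, sub_self]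
  refine ⟨ψ', hψ', ⟨?_, ?_⟩, hlast⟩
  · rw [injective_iff_map_eq_zero]
    intro x hx
    obtain ⟨c, rfl⟩ := Ideal.Quotient.mk_surjective x
    change Ideal.Quotient.mk IA' (algebraMap A (Localization.Away a) c) = 0 at hx
    rw [Ideal.Quotient.eq_zero_iff_mem] at hx
    have h : ψ' (algebraMap A (Localization.Away a) c) = 0 := hIA'ker hx
    rwa [AlgHom.commutes, Ideal.Quotient.algebraMap_eq] at h
  · intro y
    obtain ⟨y', rfl⟩ := Ideal.Quotient.mk_surjective y
    exact ⟨ψ' y', hlast y'⟩

/-- **Section lemma, bundled form.** For an étale `A`-algebra `R'` with an `A`-algebra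
map `ψ : R' → A ⧸ I`, there are an étale `A`-algebra `A'` with `A ⧸ I → A' ⧸ I A'` bijective and an
`A`-algebra map `γ : R' → A'` which reduces to `ψ` modulo `I`. -/
theorem exists_etale_of_section [Algebra.Etale A R'] (ψ : R' →ₐ[A] A ⧸ I) :
    ∃ (A' : Type u) (_ : CommRing A') (_ : Algebra A A'), Algebra.Etale A A' ∧
      Function.Bijective (algebraMap (A ⧸ I) (A' ⧸ I.map (algebraMap A A'))) ∧
      ∃ γ : R' →ₐ[A] A', ∀ x, Ideal.Quotient.mk (I.map (algebraMap A A')) (γ x) =
        algebraMap (A ⧸ I) (A' ⧸ I.map (algebraMap A A')) (ψ x) := by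
  obtain ⟨a, -, ψ', hψ', hbij, hlast⟩ := exists_away I ψ
  refine ⟨Localization.Away a, inferInstance, inferInstance, inferInstance, hbij,
    IsScalarTower.toAlgHom A R' (Localization.Away a), fun x => ?_⟩
  rw [← hψ' x, hlast]
  rfl

end Groth.Agent.Helper26.EtaleSection
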