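import Mathlib
import Groth.Agent.H11.HensGabber

/-!
# Henselian pairs: Gabber-form polynomial and idempotents in finite algebras (helper26)

Pure algebra used in the proof that étale algebras over a henselian pair `(A, I)` with a section
modulo `I` have a section.
-/

namespace Groth.Agent.Helper26.HensPair

open Polynomial
open scoped Pointwise

set_option linter.style.haveILetI false

variable {A B : Type*} [CommRing A] [CommRing B] [Algebra A B]

/-- Nakayama: if `B = A + (b-1)B + IB` then `B = A + (b-1)B`. -/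
theorem exists_eq_add_mul [Module.Finite A B] (I : Ideal A) (hI : I ≤ Ideal.jacobson ⊥) (b : B)
    (hgen : ∀ y : B, ∃ (c : A) (w : B),
      y - algebraMap A B c - (b - 1) * w ∈ I.map (algebraMap A B)) :
    ∀ y : B, ∃ (c : A) (w : B), y = algebraMap A B c + (b - 1) * w := by
  let N : Submodule A B :=
    LinearMap.range (Algebra.linearMap A B) ⊔ LinearMap.range (LinearMap.mulLeft A (b - 1))
  have hle : (⊤ : Submodule A B) ≤ N ⊔ I • (⊤ : Submodule A B) := by
    intro y _
    obtain ⟨c, w, h⟩ := hgen y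
    have h' : y - algebraMap A B c - (b - 1) * w ∈ I • (⊤ : Submodule A B) := by
      rw [Ideal.smul_top_eq_map]; exact h
    have h1 : algebraMap A B c + (b - 1) * w ∈ N :=
      Submodule.add_mem_sup ⟨c, rfl⟩ ⟨w, rfl⟩
    have h2 := Submodule.add_mem_sup h1 h'
    convert h2 using 1
    ring
  have hN := Submodule.le_of_le_smul_of_le_jacobson_bot (Module.Finite.fg_top) hI hle
  intro y
  have hy : y ∈ N := hN trivial
  obtain ⟨y₁, ⟨c, rfl⟩, y₂, ⟨w, rfl⟩, rfl⟩ := Submodule.mem_sup.mp hy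
  exact ⟨c, w, rfl⟩

/-- The Gabber-form relation for an element `b` of a finite `A`-algebra with `b(b-1) ∈ IB` and
`B = A + (b-1)B`. -/
theorem exists_gabber_poly [Module.Finite A B] (I : Ideal A) (b : B)
    (hb : b * (b - 1) ∈ I.map (algebraMap A B))
    (hgen : ∀ y : B, ∃ (c : A) (w : B), y = algebraMap A B c + (b - 1) * w) :
    ∃ (N : ℕ) (j : A[X]), j.natDegree ≤ N ∧ (∀ i, j.coeff i ∈ I) ∧
      aeval b (X ^ N * (X - 1) + j) = 0 := by
  classical
  rcases subsingleton_or_nontrivial A with hA | hA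
  · haveI : Subsingleton B := Module.subsingleton A B
    exact ⟨0, 0, by simp, fun i => by simp, Subsingleton.elim _ _⟩
  -- the subalgebra `S = A[b]`
  obtain ⟨S, hS⟩ : ∃ S : Subalgebra A B, S = Algebra.adjoin A {b} := ⟨_, rfl⟩
  have hbS : b ∈ S := by rw [hS]; exact Algebra.subset_adjoin (Set.mem_singleton b)
  obtain ⟨bS, hbSdef⟩ : ∃ bS : S, (bS : B) = b := ⟨⟨b, hbS⟩, rfl⟩
  obtain ⟨IC, hIC⟩ : ∃ IC : Submodule A B, IC = I • Subalgebra.toSubmodule S := ⟨_, rfl⟩
  have hIC_mul : ∀ c ∈ S, ∀ x ∈ IC, c * x ∈ IC := by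
    intro c hc x hx
    rw [hIC] at hx ⊢
    refine Submodule.smul_induction_on (p := fun x => c * x ∈ I • Subalgebra.toSubmodule S)
      hx ?_ ?_
    · intro i hi n hn
      rw [mul_smul_comm]
      exact Submodule.smul_mem_smul hi
        ((Subalgebra.mem_toSubmodule S).mpr (S.mul_mem hc ((Subalgebra.mem_toSubmodule S).mp hn)))
    · intro x y hx hy
      rw [mul_add]; exact add_mem hx hy
  -- determinant trick over `S`
  haveI : Module.Finite S B := Module.Finite.of_restrictScalars_finite A S B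
  obtain ⟨𝔞, h𝔞⟩ : ∃ 𝔞 : Ideal S, 𝔞 = Ideal.span {bS - 1} := ⟨_, rfl⟩
  obtain ⟨N₁, hN₁⟩ : ∃ N₁ : Submodule S B, N₁ = Submodule.span S {b} := ⟨_, rfl⟩
  obtain ⟨P, hP⟩ : ∃ P : Submodule S B, P = LinearMap.range (LinearMap.mulLeft S b) := ⟨_, rfl⟩
  have hPfg : P.FG := by
    rw [hP, LinearMap.range_eq_map]; exact (Module.Finite.fg_top).map _
  have hPle : P ≤ N₁ ⊔ 𝔞 • P := by
    rw [hP]
    rintro _ ⟨y, rfl⟩
    obtain ⟨c, w, rfl⟩ := hgen y
    have e1 : (algebraMap A S c) • b = algebraMap A B c * b := by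
      rw [Subalgebra.smul_def, smul_eq_mul]; rfl
    have e2 : (bS - 1) • (b * w) = (b - 1) * (b * w) := by
      rw [Subalgebra.smul_def, smul_eq_mul, Subalgebra.coe_sub, Subalgebra.coe_one, hbSdef]
    have : LinearMap.mulLeft S b (algebraMap A B c + (b - 1) * w) =
        (algebraMap A S c) • b + (bS - 1) • (LinearMap.mulLeft S b w) := by
      rw [LinearMap.mulLeft_apply, LinearMap.mulLeft_apply, e1, e2]; ring
    rw [this]
    refine Submodule.add_mem_sup ?_ ?_
    · rw [hN₁]; exact Submodule.smul_mem _ _ (Submodule.mem_span_singleton_self b)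
    · rw [h𝔞]
      exact Submodule.smul_mem_smul (Ideal.mem_span_singleton_self _) ⟨w, rfl⟩
  obtain ⟨g, hg1, hgP⟩ :=
    Submodule.exists_sub_one_mem_and_smul_le_of_fg_of_le_sup hPfg le_rfl hPle
  rw [h𝔞] at hg1
  obtain ⟨h, hh⟩ := Ideal.mem_span_singleton'.mp hg1
  have hgy : ∀ y : B, (g : B) * (b * y) ∈ S := by
    intro y
    have h1 : g • (b * y) ∈ g • P := by
      rw [hP]; exact Submodule.smul_mem_pointwise_smul _ _ _ ⟨y, rfl⟩
    have h2 := hgP h1
    rw [hN₁] at h2
    obtain ⟨t, ht⟩ := Submodule.mem_span_singleton.mp h2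
    have : (g : B) * (b * y) = (t : B) * b := by
      rw [← smul_eq_mul, ← Subalgebra.smul_def, ← ht, Subalgebra.smul_def, smul_eq_mul]
    rw [this]; exact S.mul_mem t.2 hbS
  have hgz : (g : B) * (b * (b * (b - 1))) ∈ IC := by
    have hz : b * (b - 1) ∈ I • (⊤ : Submodule A B) := by
      rw [Ideal.smul_top_eq_map]; exact hb
    rw [hIC]
    refine Submodule.smul_induction_on
      (p := fun x => (g : B) * (b * x) ∈ I • Subalgebra.toSubmodule S) hz ?_ ?_
    · intro i hi n _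
      rw [mul_smul_comm, mul_smul_comm]
      exact Submodule.smul_mem_smul hi ((Subalgebra.mem_toSubmodule S).mpr (hgy n))
    · intro x y hx hy
      rw [mul_add, mul_add]; exact add_mem hx hy
  -- Cayley–Hamilton for `z = b(b-1)`
  obtain ⟨p, hpm, -, hpc, hp0⟩ :=
    LinearMap.exists_monic_and_natDegree_eq_and_coeff_mem_pow_and_aeval_eq_zero A
      (Algebra.lmul A B (b * (b - 1))) I (by
        rintro _ ⟨y, rfl⟩
        rw [Ideal.smul_top_eq_map]
        change b * (b - 1) * y ∈ I.map (algebraMap A B)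
        exact Ideal.mul_mem_right _ _ hb)
  have hpz : aeval (b * (b - 1)) p = 0 := by
    have h1 : aeval (Algebra.lmul A B (b * (b - 1))) p =
        Algebra.lmul A B (aeval (b * (b - 1)) p) := aeval_algHom_apply (Algebra.lmul A B) _ p
    have h2 : Algebra.lmul A B (aeval (b * (b - 1)) p) 1 = 0 := by
      rw [← h1, hp0]; rfl
    have h3 : Algebra.lmul A B (aeval (b * (b - 1)) p) 1 = aeval (b * (b - 1)) p * 1 := rfl
    rw [h3, mul_one] at h2
    exact h2
  obtain ⟨s, hs⟩ : ∃ s : ℕ, s = p.natDegree := ⟨_, rfl⟩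
  have hzS : b * (b - 1) ∈ S := S.mul_mem hbS (S.sub_mem hbS S.one_mem)
  have hzs : (b * (b - 1)) ^ s ∈ IC := by
    have hsum : aeval (b * (b - 1)) p = (b * (b - 1)) ^ s +
        ∑ i ∈ Finset.range s, p.coeff i • (b * (b - 1)) ^ i := by
      conv_lhs => rw [hpm.as_sum]
      rw [hs]
      simp [Algebra.smul_def]
    rw [hpz] at hsum
    have hneg : (b * (b - 1)) ^ s = - ∑ i ∈ Finset.range s, p.coeff i • (b * (b - 1)) ^ i := by
      linear_combination -hsum
    rw [hneg, hIC]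
    refine neg_mem (sum_mem fun i hi => ?_)
    have hi' : i < p.natDegree := by rw [← hs]; exact Finset.mem_range.mp hi
    have hci : p.coeff i ∈ I := Ideal.pow_le_self (by omega) (hpc i)
    exact Submodule.smul_mem_smul hci ((Subalgebra.mem_toSubmodule S).mpr (S.pow_mem hzS i))
  -- `g = 1 + h (b - 1)`
  have hgB : (h : B) * (b - 1) = (g : B) - 1 := by
    have := congrArg (Subtype.val) hh
    simpa [hbSdef] using this
  obtain ⟨t, ht⟩ : ∃ t : B, t = -(h : B) * (b - 1) := ⟨_, rfl⟩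
  have htS : t ∈ S := by
    rw [ht]; exact S.mul_mem (S.neg_mem h.2) (S.sub_mem hbS S.one_mem)
  obtain ⟨G', hG'⟩ : ∃ G' : B, G' = ∑ i ∈ Finset.range s, t ^ i := ⟨_, rfl⟩
  have hG'S : G' ∈ S := by
    rw [hG']; exact S.sum_mem fun i _ => S.pow_mem htS i
  have hgg : G' * (1 - t) = 1 - t ^ s := by rw [hG']; exact geom_sum_mul_neg t s
  have hX0 : b ^ (s + 2) * (b - 1) ∈ IC := by
    have hX : b ^ (s + 2) * (b - 1) =
        (b ^ s * G') * ((g : B) * (b * (b * (b - 1)))) +
          (b ^ 2 * (b - 1) * (-(h : B)) ^ s) * (b ^ s * (b - 1) ^ s) := by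
      have hg' : (g : B) = 1 - t := by rw [ht]; linear_combination -hgB
      rw [hg']
      have hts : t ^ s = (-(h : B)) ^ s * (b - 1) ^ s := by rw [ht, mul_pow]
      linear_combination (-(b ^ (s + 2) * (b - 1))) * hgg + (b ^ (s + 2) * (b - 1)) * hts
    rw [hX, ← mul_pow b (b - 1) s]
    refine add_mem (hIC_mul _ (S.mul_mem (S.pow_mem hbS _) hG'S) _ hgz) (hIC_mul _ ?_ _ hzs)
    exact S.mul_mem (S.mul_mem (S.pow_mem hbS _) (S.sub_mem hbS S.one_mem))
      (S.pow_mem (S.neg_mem h.2) _)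
  -- elements of `IC` are values of polynomials with coefficients in `I`
  have hICpoly : ∀ x ∈ IC, ∃ j₁ : A[X], (∀ i, j₁.coeff i ∈ I) ∧ aeval b j₁ = x := by
    intro x hx
    rw [hIC] at hx
    refine Submodule.smul_induction_on
      (p := fun x => ∃ j₁ : A[X], (∀ i, j₁.coeff i ∈ I) ∧ aeval b j₁ = x) hx ?_ ?_
    · intro i hi n hn
      have hn' : n ∈ S := (Subalgebra.mem_toSubmodule S).mp hn
      rw [hS, Algebra.adjoin_singleton_eq_range_aeval] at hn'
      obtain ⟨pc, rfl⟩ := hn'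
      refine ⟨C i * pc, fun k => ?_, ?_⟩
      · rw [coeff_C_mul]; exact I.mul_mem_right _ hi
      · rw [map_mul, aeval_C, Algebra.smul_def]; rfl
    · rintro x y ⟨j₁, h1, rfl⟩ ⟨j₂, h2, rfl⟩
      exact ⟨j₁ + j₂, fun k => by rw [coeff_add]; exact I.add_mem (h1 k) (h2 k), map_add _ _ _⟩
  -- a monic polynomial killing `b`
  obtain ⟨P₀, hP₀m, hP₀⟩ := Algebra.IsIntegral.isIntegral (R := A) b
  obtain ⟨P₁, hP₁⟩ : ∃ P₁ : A[X], P₁ = X * P₀ := ⟨_, rfl⟩
  have hP₁m : P₁.Monic := by rw [hP₁]; exact monic_X.mul hP₀m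
  have hP₁deg : P₁.natDegree = 1 + P₀.natDegree := by
    rw [hP₁, monic_X.natDegree_mul hP₀m, natDegree_X]
  have hP₁ne : P₁ ≠ 1 := by
    intro h1
    rw [h1, natDegree_one] at hP₁deg
    omega
  have hP₁b : aeval b P₁ = 0 := by
    rw [hP₁, map_mul, aeval_def b P₀, hP₀, mul_zero]
  obtain ⟨j₁, hj₁, hj₁e⟩ := hICpoly (b ^ P₁.natDegree * (b ^ (s + 2) * (b - 1)))
    (hIC_mul _ (S.pow_mem hbS _) _ hX0)
  obtain ⟨j, hjdef⟩ : ∃ j : A[X], j = j₁ %ₘ P₁ := ⟨_, rfl⟩
  have hjc : ∀ i, j.coeff i ∈ I := by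
    intro i
    have h0 : j₁.map (Ideal.Quotient.mk I) = 0 := by
      ext k
      rw [coeff_map, coeff_zero]
      exact Ideal.Quotient.eq_zero_iff_mem.mpr (hj₁ k)
    have h1 : j.map (Ideal.Quotient.mk I) = 0 := by
      rw [hjdef, map_modByMonic _ hP₁m, h0, zero_modByMonic]
    have h2 := congrArg (fun q => q.coeff i) h1
    simp only [coeff_map, coeff_zero] at h2
    exact Ideal.Quotient.eq_zero_iff_mem.mp h2
  have hjd : j.natDegree < P₁.natDegree := by
    rw [hjdef]; exact natDegree_modByMonic_lt _ hP₁m hP₁ne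
  have hje : aeval b j = aeval b j₁ := by
    have h1 := modByMonic_add_div j₁ P₁
    have h2 := congrArg (aeval b) h1
    rw [map_add, map_mul, hP₁b, zero_mul, add_zero] at h2
    rw [hjdef]; exact h2
  refine ⟨P₁.natDegree + (s + 2), -j, ?_, ?_, ?_⟩
  · rw [natDegree_neg]; omega
  · intro i; rw [coeff_neg]; exact I.neg_mem (hjc i)
  · simp only [map_add, map_mul, map_pow, map_sub, map_neg, aeval_X, map_one, hje, hj₁e]
    ring

/-- Over a henselian pair: a rank-one idempotent lifts in a finite algebra. -/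
theorem exists_idempotent [Module.Finite A B] (I : Ideal A) (hH : HenselianRing A I) (b : B)
    (hb : b * (b - 1) ∈ I.map (algebraMap A B))
    (hgen : ∀ y : B, ∃ (c : A) (w : B),
      y - algebraMap A B c - (b - 1) * w ∈ I.map (algebraMap A B)) :
    ∃ (e : B) (q : A[X]) (α : A) (v : Aˣ), α - 1 ∈ I ∧ (v : A) = q.eval α ∧
      e = aeval b q * algebraMap A B (↑v⁻¹ : A) ∧ IsIdempotentElem e ∧
      (b - algebraMap A B α) * e = 0 ∧ ∀ y : B, ∃ c : A, e * y = c • e := by
  have hI := hH.jac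
  have hgen' := exists_eq_add_mul I hI b hgen
  obtain ⟨N, j, hjN, hjI, hjb⟩ := exists_gabber_poly I b hb hgen'
  obtain ⟨α, ⟨hα1, hαroot⟩, -⟩ := Groth.Agent.H11.gabber_of_hens I hH N j hjN hjI
  obtain ⟨f, hf⟩ : ∃ f : A[X], f = X ^ N * (X - 1) + j := ⟨_, rfl⟩
  rw [← hf] at hjb hαroot
  obtain ⟨q, hq⟩ : ∃ q : A[X], q = f /ₘ (X - C α) := ⟨_, rfl⟩
  have hfq : (X - C α) * q = f := by rw [hq]; exact mul_divByMonic_eq_iff_isRoot.mpr hαroot
  have hder : f.derivative.eval α = q.eval α := by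
    rw [← hfq]; simp [derivative_mul]
  have hu : IsUnit (q.eval α) := by
    rw [← hder]
    apply Groth.Agent.H11.isUnit_of_isUnit_mk I hI
    apply Groth.Agent.H11.isUnit_mk_eval_of_sub_mem I f.derivative α 1 hα1
    have e2 : f.derivative.eval 1 = 1 + j.derivative.eval 1 := by
      simp [hf, derivative_mul]
    have hd : ∀ i, j.derivative.coeff i ∈ I := fun i => by
      rw [coeff_derivative]; exact I.mul_mem_right _ (hjI _)
    rw [e2, map_add, map_one,
      Ideal.Quotient.eq_zero_iff_mem.2 (Groth.Agent.H11.eval_mem_of_coeff_mem I _ hd 1), add_zero]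
    exact isUnit_one
  obtain ⟨v, hv⟩ := hu
  obtain ⟨e, he⟩ : ∃ e : B, e = aeval b q * algebraMap A B (↑v⁻¹ : A) := ⟨_, rfl⟩
  have hroot1 : (q - C (q.eval α)).IsRoot α := by simp [IsRoot]
  have hq1 : (X - C α) * ((q - C (q.eval α)) /ₘ (X - C α)) = q - C (q.eval α) :=
    mul_divByMonic_eq_iff_isRoot.mpr hroot1
  obtain ⟨q₁, hq₁⟩ : ∃ q₁ : A[X], q₁ = (q - C (q.eval α)) /ₘ (X - C α) := ⟨_, rfl⟩
  rw [← hq₁] at hq1
  have hfb : (b - algebraMap A B α) * aeval b q = 0 := by
    have := congrArg (aeval b) hfq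
    rw [map_mul, map_sub, aeval_X, aeval_C, hjb] at this
    exact this
  have hqq : aeval b q * (aeval b q - algebraMap A B (q.eval α)) = 0 := by
    have := congrArg (aeval b) hq1
    rw [map_mul, map_sub, map_sub, aeval_X, aeval_C, aeval_C] at this
    rw [← this]
    linear_combination (aeval b q₁) * hfb
  have hvu : algebraMap A B (↑v⁻¹ : A) * algebraMap A B (q.eval α) = 1 := by
    rw [← map_mul, ← hv, Units.inv_mul, map_one]
  have hidem : IsIdempotentElem e := by
    change e * e = e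
    rw [he]
    linear_combination (algebraMap A B (↑v⁻¹ : A)) ^ 2 * hqq +
      aeval b q * algebraMap A B (↑v⁻¹ : A) * hvu
  have hbe : (b - algebraMap A B α) * e = 0 := by
    rw [he]
    linear_combination (algebraMap A B (↑v⁻¹ : A)) * hfb
  refine ⟨e, q, α, v, hα1, hv, he, hidem, hbe, ?_⟩
  obtain ⟨N', hN'⟩ : ∃ N' : Submodule A B, N' = LinearMap.range (LinearMap.mulLeft A e) :=
    ⟨_, rfl⟩
  obtain ⟨N₀, hN₀⟩ : ∃ N₀ : Submodule A B, N₀ = Submodule.span A {e} := ⟨_, rfl⟩
  have hfg : N'.FG := by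
    rw [hN', LinearMap.range_eq_map]; exact (Module.Finite.fg_top).map _
  have hle : N' ≤ N₀ ⊔ I • N' := by
    rw [hN']
    rintro _ ⟨y, rfl⟩
    obtain ⟨c, w, rfl⟩ := hgen' y
    have : LinearMap.mulLeft A e (algebraMap A B c + (b - 1) * w) =
        c • e + (α - 1) • (LinearMap.mulLeft A e w) := by
      simp only [LinearMap.mulLeft_apply, Algebra.smul_def, map_sub, map_one]
      linear_combination w * hbe
    rw [this]
    refine Submodule.add_mem_sup ?_ ?_
    · rw [hN₀]; exact Submodule.smul_mem _ _ (Submodule.mem_span_singleton_self e)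
    · exact Submodule.smul_mem_smul hα1 ⟨w, rfl⟩
  have hfin := Submodule.le_of_le_smul_of_le_jacobson_bot hfg hI hle
  intro y
  have hy : e * y ∈ N₀ := hfin (by rw [hN']; exact ⟨y, rfl⟩)
  rw [hN₀] at hy
  obtain ⟨c, hc⟩ := Submodule.mem_span_singleton.mp hy
  exact ⟨c, hc.symm⟩

end Groth.Agent.Helper26.HensPair
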