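import Mathlib
import Groth.Agent.Lib.Helper26.HensPair1
import Groth.Agent.Lib.Helper26.EtaleSection

/-!
# Henselian pairs: étale algebras with a section modulo `I` have a section (helper26)

Main result: `Groth.Agent.Helper26.HensPair.exists_section`:
if `HenselianRing A I` (Mathlib's definition: simple roots of monic polynomials lift) then for every
étale `A`-algebra `A'`, every `A`-algebra map `A' → A/I` lifts to an `A`-algebra map `A' → A`.

The proof follows Gabber: Zariski's main theorem gives a finite subalgebra `B ⊆ A'` and `r ∈ B`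
with `σ r = 1` and `B[1/r] = A'[1/r]`; a rank-one idempotent of `B/IB` is lifted using a
Gabber-form polynomial (`HensPair1`), and the corresponding factor of `A'` is `A` itself.
-/

namespace Groth.Agent.Helper26.HensPair

open Polynomial

universe u

set_option linter.style.haveILetI false

/-- Global form of Zariski's main theorem along a section modulo `I`. -/
theorem exists_integral_elt {A A' : Type u} [CommRing A] [CommRing A'] [Algebra A A']
    [Algebra.Etale A A'] (I : Ideal A) (σ : A' →ₐ[A] A ⧸ I) :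
    ∃ r : A', IsIntegral A r ∧ σ r = 1 ∧ ∀ x : A', ∃ m : ℕ, IsIntegral A (r ^ m * x) := by
  classical
  let K : Ideal (A ⧸ I) :=
    { carrier := {c | ∃ r : A', IsIntegral A r ∧ σ r = c ∧
        ∀ x : A', ∃ m : ℕ, IsIntegral A (r ^ m * x)}
      zero_mem' := ⟨0, isIntegral_zero, map_zero σ,
        fun x => ⟨1, by rw [pow_one, zero_mul]; exact isIntegral_zero⟩⟩
      add_mem' := by
        rintro c₁ c₂ ⟨r₁, hr₁, hc₁, h₁⟩ ⟨r₂, hr₂, hc₂, h₂⟩
        refine ⟨r₁ + r₂, hr₁.add hr₂, by rw [map_add, hc₁, hc₂], fun x => ?_⟩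
        obtain ⟨m₁, hm₁⟩ := h₁ x
        obtain ⟨m₂, hm₂⟩ := h₂ x
        refine ⟨m₁ + m₂, ?_⟩
        rw [add_pow, Finset.sum_mul]
        refine IsIntegral.sum _ fun k hk => ?_
        have hkle : k ≤ m₁ + m₂ := Nat.lt_succ_iff.mp (Finset.mem_range.mp hk)
        have hchoose : IsIntegral A (((m₁ + m₂).choose k : ℕ) : A') := by
          rw [← map_natCast (algebraMap A A')]; exact isIntegral_algebraMap
        rcases le_or_gt m₁ k with hk1 | hk1
        · have e : r₁ ^ k * r₂ ^ (m₁ + m₂ - k) * ((m₁ + m₂).choose k : A') * x =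
              r₁ ^ (k - m₁) * r₂ ^ (m₁ + m₂ - k) * ((m₁ + m₂).choose k : A') * (r₁ ^ m₁ * x) := by
            have : r₁ ^ k = r₁ ^ (k - m₁) * r₁ ^ m₁ := by
              rw [← pow_add, Nat.sub_add_cancel hk1]
            rw [this]; ring
          rw [e]
          exact (((hr₁.pow _).mul (hr₂.pow _)).mul hchoose).mul hm₁
        · have hk2 : m₂ ≤ m₁ + m₂ - k := by omega
          have e : r₁ ^ k * r₂ ^ (m₁ + m₂ - k) * ((m₁ + m₂).choose k : A') * x =
              r₁ ^ k * r₂ ^ (m₁ + m₂ - k - m₂) * ((m₁ + m₂).choose k : A') * (r₂ ^ m₂ * x) := by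
            have : r₂ ^ (m₁ + m₂ - k) = r₂ ^ (m₁ + m₂ - k - m₂) * r₂ ^ m₂ := by
              rw [← pow_add, Nat.sub_add_cancel hk2]
            rw [this]; ring
          rw [e]
          exact (((hr₁.pow _).mul (hr₂.pow _)).mul hchoose).mul hm₂
      smul_mem' := by
        rintro c d ⟨r, hr, hd, h⟩
        obtain ⟨c₀, rfl⟩ := Ideal.Quotient.mk_surjective c
        refine ⟨algebraMap A A' c₀ * r, isIntegral_algebraMap.mul hr, ?_, fun x => ?_⟩
        · rw [map_mul, AlgHom.commutes, hd, smul_eq_mul, Ideal.Quotient.algebraMap_eq]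
        · obtain ⟨m, hm⟩ := h x
          refine ⟨m, ?_⟩
          have : (algebraMap A A' c₀ * r) ^ m * x = algebraMap A A' c₀ ^ m * (r ^ m * x) := by
            rw [mul_pow]; ring
          rw [this]
          exact (isIntegral_algebraMap.pow _).mul hm }
  have hK : K = ⊤ := by
    by_contra hne
    obtain ⟨P, hP, hle⟩ := Ideal.exists_le_maximal K hne
    haveI := hP.isPrime
    haveI : (P.comap σ.toRingHom).IsPrime := Ideal.comap_isPrime _ _
    haveI : Algebra.QuasiFinite A A' := inferInstance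
    haveI : Algebra.QuasiFiniteAt A (P.comap σ.toRingHom) := inferInstance
    obtain ⟨r, hrQ, hr, hx⟩ := Algebra.zariskisMainProperty_iff.mp
      (Algebra.ZariskisMainProperty.of_finiteType (R := A) (P.comap σ.toRingHom))
    exact hrQ (hle ⟨r, hr, rfl, hx⟩)
  have h1 : (1 : A ⧸ I) ∈ K := by rw [hK]; trivial
  obtain ⟨r, hr, hσ, hx⟩ := h1
  exact ⟨r, hr, hσ, hx⟩

/-- A finite subalgebra `B` with `B[1/r] = A'[1/r]`. -/
theorem exists_finite_subalgebra {A A' : Type u} [CommRing A] [CommRing A'] [Algebra A A']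
    [Algebra.FiniteType A A'] (r : A') (hr : IsIntegral A r)
    (h : ∀ x : A', ∃ m : ℕ, IsIntegral A (r ^ m * x)) :
    ∃ B : Subalgebra A A', Module.Finite A B ∧ r ∈ B ∧
      ∀ x : A', ∃ m : ℕ, ∀ k, m ≤ k → r ^ k * x ∈ B := by
  classical
  obtain ⟨s, hs⟩ := (Algebra.FiniteType.out : (⊤ : Subalgebra A A').FG)
  choose m hm using h
  let t : Set A' := insert r ((fun x => r ^ m x * x) '' (s : Set A'))
  have htfin : t.Finite := (s.finite_toSet.image _).insert _
  have htint : ∀ x ∈ t, IsIntegral A x := by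
    rintro x (rfl | ⟨y, -, rfl⟩)
    · exact hr
    · exact hm y
  have hrB : r ∈ Algebra.adjoin A t := Algebra.subset_adjoin (Set.mem_insert _ _)
  refine ⟨Algebra.adjoin A t, ⟨(Submodule.fg_top _).mpr (fg_adjoin_of_finite htfin htint)⟩,
    hrB, fun x => ?_⟩
  have hx : x ∈ Algebra.adjoin A (s : Set A') := by rw [hs]; trivial
  induction hx using Algebra.adjoin_induction with
  | mem y hy =>
    refine ⟨m y, fun k hk => ?_⟩
    have : r ^ k * y = r ^ (k - m y) * (r ^ m y * y) := by
      rw [← mul_assoc, ← pow_add, Nat.sub_add_cancel hk]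
    rw [this]
    exact Subalgebra.mul_mem _ (Subalgebra.pow_mem _ hrB _)
      (Algebra.subset_adjoin (Set.mem_insert_of_mem _ ⟨y, hy, rfl⟩))
  | algebraMap a =>
    exact ⟨0, fun k _ => Subalgebra.mul_mem _ (Subalgebra.pow_mem _ hrB _)
      (Subalgebra.algebraMap_mem _ a)⟩
  | add y z _ _ hy hz =>
    obtain ⟨m₁, h₁⟩ := hy
    obtain ⟨m₂, h₂⟩ := hz
    refine ⟨max m₁ m₂, fun k hk => ?_⟩
    rw [mul_add]
    exact Subalgebra.add_mem _ (h₁ k (le_trans (le_max_left _ _) hk))
      (h₂ k (le_trans (le_max_right _ _) hk))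
  | mul y z _ _ hy hz =>
    obtain ⟨m₁, h₁⟩ := hy
    obtain ⟨m₂, h₂⟩ := hz
    refine ⟨m₁ + m₂, fun k hk => ?_⟩
    have : r ^ k * (y * z) = (r ^ m₁ * y) * (r ^ (k - m₁) * z) := by
      have : r ^ k = r ^ m₁ * r ^ (k - m₁) := by
        rw [← pow_add, Nat.add_sub_cancel' (by omega)]
      rw [this]; ring
    rw [this]
    exact Subalgebra.mul_mem _ (h₁ m₁ le_rfl) (h₂ (k - m₁) (by omega))

/-- The element `b = rᵐ a` of `B` lifting the rank-one idempotent of the section. -/
theorem exists_good_b {A A' : Type u} [CommRing A] [CommRing A'] [Algebra A A']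
    [Algebra.FormallyUnramified A A'] [Algebra.FiniteType A A'] (I : Ideal A)
    (σ : A' →ₐ[A] A ⧸ I) (B : Subalgebra A A') [Module.Finite A B] (r : A') (hrB : r ∈ B)
    (hσr : σ r = 1) (hB : ∀ x : A', ∃ m : ℕ, ∀ k, m ≤ k → r ^ k * x ∈ B) :
    ∃ b : B, σ (b : A') = 1 ∧ b * (b - 1) ∈ I.map (algebraMap A B) ∧
      ∀ y : B, ∃ (c : A) (w : B),
        y - algebraMap A B c - (b - 1) * w ∈ I.map (algebraMap A B) := by
  classical
  obtain ⟨a, ha1, ha⟩ := EtaleSection.exists_mul_mem I σ
  obtain ⟨rB, hrBdef⟩ : ∃ rB : B, (rB : A') = r := ⟨⟨r, hrB⟩, rfl⟩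
  have L : ∀ u ∈ I.map (algebraMap A A'), ∃ M : ℕ, ∀ k, M ≤ k →
      ∃ w : B, w ∈ I.map (algebraMap A B) ∧ (w : A') = r ^ k * u := by
    intro u hu
    refine Submodule.span_induction (p := fun u _ => ∃ M : ℕ, ∀ k, M ≤ k →
      ∃ w : B, w ∈ I.map (algebraMap A B) ∧ (w : A') = r ^ k * u) ?_ ?_ ?_ ?_ hu
    · rintro _ ⟨i, hi, rfl⟩
      refine ⟨0, fun k _ => ⟨rB ^ k * algebraMap A B i,
        Ideal.mul_mem_left _ _ (Ideal.mem_map_of_mem _ hi), ?_⟩⟩
      rw [Subalgebra.coe_mul, Subalgebra.coe_pow, hrBdef]; rfl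
    · exact ⟨0, fun k _ => ⟨0, Ideal.zero_mem _, by simp⟩⟩
    · rintro x y _ _ ⟨M₁, h₁⟩ ⟨M₂, h₂⟩
      refine ⟨max M₁ M₂, fun k hk => ?_⟩
      obtain ⟨w₁, hw₁, e₁⟩ := h₁ k (le_trans (le_max_left _ _) hk)
      obtain ⟨w₂, hw₂, e₂⟩ := h₂ k (le_trans (le_max_right _ _) hk)
      exact ⟨w₁ + w₂, Ideal.add_mem _ hw₁ hw₂, by rw [Subalgebra.coe_add, e₁, e₂, mul_add]⟩
    · rintro t x _ ⟨M₁, h₁⟩
      obtain ⟨mt, hmt⟩ := hB t
      refine ⟨mt + M₁, fun k hk => ?_⟩
      obtain ⟨w₁, hw₁, e₁⟩ := h₁ (k - mt) (by omega)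
      refine ⟨⟨r ^ mt * t, hmt mt le_rfl⟩ * w₁, Ideal.mul_mem_left _ _ hw₁, ?_⟩
      rw [Subalgebra.coe_mul, e₁, smul_eq_mul]
      have : r ^ k = r ^ mt * r ^ (k - mt) := by
        rw [← pow_add, Nat.add_sub_cancel' (by omega)]
      rw [this]; ring
  have hu₀ : a * (1 - a) ∈ I.map (algebraMap A A') :=
    ha _ (by rw [RingHom.mem_ker, map_sub, map_one, ha1, sub_self])
  have hu₁ : a * (a * (1 - r)) ∈ I.map (algebraMap A A') :=
    Ideal.mul_mem_left _ _ (ha _ (by rw [RingHom.mem_ker, map_sub, map_one, hσr, sub_self]))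
  obtain ⟨T, hT⟩ := (Module.Finite.fg_top : (⊤ : Submodule A B).FG)
  choose cy hcy using fun y : B => Ideal.Quotient.mk_surjective (σ (y : A'))
  have huy : ∀ y : B, a * ((y : A') - algebraMap A A' (cy y)) ∈ I.map (algebraMap A A') := by
    intro y
    refine ha _ ?_
    rw [RingHom.mem_ker, map_sub, AlgHom.commutes, Ideal.Quotient.algebraMap_eq, hcy, sub_self]
  choose Mf hMf using fun y : B => L _ (huy y)
  obtain ⟨M₀, hM₀⟩ := L _ hu₀
  obtain ⟨M₁, hM₁⟩ := L _ hu₁
  obtain ⟨ma, hma⟩ := hB a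
  obtain ⟨m, hm⟩ : ∃ m : ℕ, m = M₀ + M₁ + ma + T.sup Mf := ⟨_, rfl⟩
  obtain ⟨b, hbdef⟩ : ∃ b : B, (b : A') = r ^ m * a := ⟨⟨r ^ m * a, hma m (by omega)⟩, rfl⟩
  have hσb : σ (b : A') = 1 := by rw [hbdef, map_mul, map_pow, hσr, one_pow, ha1, one_mul]
  refine ⟨b, hσb, ?_, ?_⟩
  · -- b (b - 1) ∈ IB
    obtain ⟨w₀, hw₀, e₀⟩ := hM₀ m (by omega)
    obtain ⟨w₁, hw₁, e₁⟩ := hM₁ m (by omega)
    obtain ⟨sB, hsB⟩ : ∃ sB : B, (sB : A') = ∑ i ∈ Finset.range m, r ^ i :=
      ⟨⟨∑ i ∈ Finset.range m, r ^ i, B.sum_mem fun i _ => B.pow_mem hrB i⟩, rfl⟩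
    have hgeo : (1 - r) * ∑ i ∈ Finset.range m, r ^ i = 1 - r ^ m := mul_neg_geom_sum r m
    have hw : b * (b - 1) = -w₀ - sB * w₁ := by
      apply Subtype.ext
      rw [Subalgebra.coe_mul, Subalgebra.coe_sub, Subalgebra.coe_one, Subalgebra.coe_sub,
        Subalgebra.coe_neg, Subalgebra.coe_mul, hbdef, e₀, e₁, hsB]
      linear_combination (r ^ m * a ^ 2) * hgeo
    rw [hw]
    exact Ideal.sub_mem _ (neg_mem hw₀) (Ideal.mul_mem_left _ _ hw₁)
  · -- B = A + (b - 1) B + IB
    have hTy : ∀ y ∈ T, ∃ (c : A) (w : B),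
        y - algebraMap A B c - (b - 1) * w ∈ I.map (algebraMap A B) := by
      intro y hy
      obtain ⟨wy, hwy, ey⟩ := hMf y m (by
        have : Mf y ≤ T.sup Mf := Finset.le_sup hy
        omega)
      refine ⟨cy y, -(y - algebraMap A B (cy y)), ?_⟩
      have : y - algebraMap A B (cy y) - (b - 1) * -(y - algebraMap A B (cy y)) = wy := by
        apply Subtype.ext
        rw [ey]
        simp only [Subalgebra.coe_sub, Subalgebra.coe_mul, Subalgebra.coe_neg,
          Subalgebra.coe_one, Subalgebra.coe_algebraMap, hbdef]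
        ring
      rw [this]; exact hwy
    intro y
    have hy : y ∈ Submodule.span A (T : Set B) := by rw [hT]; trivial
    refine Submodule.span_induction (p := fun y _ => ∃ (c : A) (w : B),
      y - algebraMap A B c - (b - 1) * w ∈ I.map (algebraMap A B)) ?_ ?_ ?_ ?_ hy
    · intro y hy; exact hTy y hy
    · exact ⟨0, 0, by simp⟩
    · rintro y z _ _ ⟨c₁, w₁, h₁⟩ ⟨c₂, w₂, h₂⟩
      refine ⟨c₁ + c₂, w₁ + w₂, ?_⟩
      have : y + z - algebraMap A B (c₁ + c₂) - (b - 1) * (w₁ + w₂) =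
          (y - algebraMap A B c₁ - (b - 1) * w₁) + (z - algebraMap A B c₂ - (b - 1) * w₂) := by
        rw [map_add]; ring
      rw [this]; exact Ideal.add_mem _ h₁ h₂
    · rintro t y _ ⟨c, w, h⟩
      refine ⟨t * c, t • w, ?_⟩
      have : t • y - algebraMap A B (t * c) - (b - 1) * t • w =
          algebraMap A B t * (y - algebraMap A B c - (b - 1) * w) := by
        rw [map_mul, Algebra.smul_def, Algebra.smul_def]; ring
      rw [this]; exact Ideal.mul_mem_left _ _ h

/-- **Étale algebras over a henselian pair with a section modulo `I` have a section.** -/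
theorem exists_section {A A' : Type u} [CommRing A] [CommRing A'] [Algebra A A']
    [Algebra.Etale A A'] (I : Ideal A) (hH : HenselianRing A I) (σ : A' →ₐ[A] A ⧸ I) :
    ∃ τ : A' →ₐ[A] A, (Ideal.Quotient.mkₐ A I).comp τ = σ := by
  have hI := hH.jac
  obtain ⟨r, hr, hσr, hrx⟩ := exists_integral_elt I σ
  obtain ⟨B, hBfin, hrB, hB⟩ := exists_finite_subalgebra r hr hrx
  haveI := hBfin
  obtain ⟨b, hσb, hbb, hgen⟩ := exists_good_b I σ B r hrB hσr hB
  obtain ⟨e, q, α, v, hα1, hv, he, hidem, hbe, hey⟩ := exists_idempotent I hH b hbb hgen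
  have hσe : σ (e : A') = 1 := by
    have h1 : (e : A') = aeval (b : A') q * algebraMap A A' (↑v⁻¹ : A) := by
      rw [he, Subalgebra.coe_mul, aeval_subalgebra_coe]; rfl
    have h2 : aeval (1 : A ⧸ I) q = algebraMap A (A ⧸ I) (q.eval 1) := by
      rw [← map_one (algebraMap A (A ⧸ I)), aeval_algebraMap_apply_eq_algebraMap_eval]
    have h3 : algebraMap A (A ⧸ I) (q.eval α) = algebraMap A (A ⧸ I) (q.eval 1) := by
      rw [Ideal.Quotient.algebraMap_eq, Ideal.Quotient.eq]
      exact Groth.Agent.H11.derivative_eval_sub_mem I q α 1 hα1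
    rw [h1, map_mul, AlgHom.commutes, ← aeval_algHom_apply, hσb, h2, ← h3, ← hv, ← map_mul,
      Units.mul_inv, map_one]
  have hidem' : (e : A') * (e : A') = e := congrArg Subtype.val hidem
  obtain ⟨ar, har⟩ := hey ⟨r, hrB⟩
  have har' : (e : A') * r = algebraMap A A' ar * (e : A') := by
    have := congrArg (Subtype.val) har
    simpa [Algebra.smul_def] using this
  have har1 : ar - 1 ∈ I := by
    have := congrArg σ har'
    rw [map_mul, map_mul, hσe, hσr, AlgHom.commutes, mul_one, mul_one] at this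
    rw [← Ideal.Quotient.eq_zero_iff_mem, map_sub, map_one, sub_eq_zero]
    exact this.symm
  obtain ⟨var, hvar⟩ : IsUnit ar := Ideal.isUnit_of_sub_one_mem_jacobson_bot ar (hI har1)
  have hpow : ∀ m : ℕ, (e : A') * r ^ m = algebraMap A A' ar ^ m * (e : A') := by
    intro m
    induction m with
    | zero => simp
    | succ m ih =>
      rw [pow_succ, ← mul_assoc, ih, mul_assoc, har', pow_succ]; ring
  have hex : ∀ x : A', ∃ c : A, (e : A') * x = algebraMap A A' c * (e : A') := by
    intro x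
    obtain ⟨m, hm⟩ := hB x
    obtain ⟨c, hc⟩ := hey ⟨r ^ m * x, hm m le_rfl⟩
    have hc' : (e : A') * (r ^ m * x) = algebraMap A A' c * (e : A') := by
      have := congrArg (Subtype.val) hc
      simpa [Algebra.smul_def] using this
    refine ⟨(↑var⁻¹ : A) ^ m * c, ?_⟩
    have h1 : algebraMap A A' ar ^ m * ((e : A') * x) = algebraMap A A' c * (e : A') := by
      rw [← hc', ← mul_assoc, ← hpow m]; ring
    have h2 : algebraMap A A' ((↑var⁻¹ : A) ^ m) * algebraMap A A' ar ^ m = 1 := by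
      rw [← map_pow, ← map_mul, ← mul_pow, ← hvar, Units.inv_mul, one_pow, map_one]
    rw [map_mul]
    linear_combination (algebraMap A A' ((↑var⁻¹ : A) ^ m)) * h1 - ((e : A') * x) * h2
  -- the localization at `e`
  have he1 : algebraMap A' (Localization.Away (e : A')) (e : A') = 1 := by
    have hu : IsUnit (algebraMap A' (Localization.Away (e : A')) (e : A')) :=
      IsLocalization.Away.algebraMap_isUnit _
    have : algebraMap A' (Localization.Away (e : A')) (e : A') *
        algebraMap A' (Localization.Away (e : A')) (e : A') =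
        algebraMap A' (Localization.Away (e : A')) (e : A') := by rw [← map_mul, hidem']
    exact (IsUnit.mul_eq_left hu).mp this
  have hsurj : Function.Surjective (algebraMap A (Localization.Away (e : A'))) := by
    intro z
    obtain ⟨x, ⟨_, n, rfl⟩, rfl⟩ := IsLocalization.exists_mk'_eq (Submonoid.powers (e : A')) z
    obtain ⟨c, hc⟩ := hex x
    refine ⟨c, ?_⟩
    rw [eq_comm, IsLocalization.mk'_eq_iff_eq_mul]
    have := congrArg (algebraMap A' (Localization.Away (e : A'))) hc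
    rw [map_mul, map_mul, he1, one_mul, mul_one] at this
    simp only [map_pow, he1, one_pow, mul_one]
    rw [this, ← IsScalarTower.algebraMap_apply]
  have hidK : IsIdempotentElem (RingHom.ker (algebraMap A (Localization.Away (e : A')))) :=
    (Algebra.FormallyEtale.iff_of_surjective hsurj).mp inferInstance
  have hfgK : (RingHom.ker (algebraMap A (Localization.Away (e : A')))).FG :=
    Algebra.FinitePresentation.ker_fG_of_surjective
      (Algebra.ofId A (Localization.Away (e : A'))) hsurj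
  have hKI : RingHom.ker (algebraMap A (Localization.Away (e : A'))) ≤ I := by
    intro c hc
    rw [RingHom.mem_ker, IsScalarTower.algebraMap_apply A A' (Localization.Away (e : A'))] at hc
    obtain ⟨⟨_, n, rfl⟩, hn⟩ :=
      (IsLocalization.map_eq_zero_iff (Submonoid.powers (e : A')) _ _).mp hc
    have := congrArg σ hn
    rw [map_mul, map_pow, hσe, one_pow, one_mul, AlgHom.commutes, map_zero] at this
    exact Ideal.Quotient.eq_zero_iff_mem.mp this
  have hK0 : RingHom.ker (algebraMap A (Localization.Away (e : A'))) = ⊥ :=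
    Submodule.eq_bot_of_le_smul_of_le_jacobson_bot _ _ hfgK
      (by rw [Ideal.smul_eq_mul]; exact hidK.ge) (hKI.trans hI)
  have hinj : Function.Injective (algebraMap A (Localization.Away (e : A'))) :=
    (RingHom.injective_iff_ker_eq_bot _).mpr hK0
  let ε : A ≃ₐ[A] Localization.Away (e : A') :=
    AlgEquiv.ofBijective (Algebra.ofId A (Localization.Away (e : A'))) ⟨hinj, hsurj⟩
  let τ : A' →ₐ[A] A :=
    (ε.symm : Localization.Away (e : A') →ₐ[A] A).comp
      (IsScalarTower.toAlgHom A A' (Localization.Away (e : A')))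
  refine ⟨τ, ?_⟩
  ext x
  have h1 : algebraMap A (Localization.Away (e : A')) (τ x) =
      algebraMap A' (Localization.Away (e : A')) x := by
    change ε (ε.symm (algebraMap A' (Localization.Away (e : A')) x)) = _
    exact ε.apply_symm_apply _
  have h2 : algebraMap A' (Localization.Away (e : A')) (x - algebraMap A A' (τ x)) = 0 := by
    rw [map_sub, ← IsScalarTower.algebraMap_apply A A' (Localization.Away (e : A')), h1, sub_self]
  obtain ⟨⟨_, n, rfl⟩, hn⟩ :=
    (IsLocalization.map_eq_zero_iff (Submonoid.powers (e : A')) _ _).mp h2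
  have := congrArg σ hn
  rw [map_mul, map_pow, hσe, one_pow, one_mul, map_sub, AlgHom.commutes, map_zero,
    sub_eq_zero] at this
  rw [AlgHom.comp_apply, this]
  rfl

end Groth.Agent.Helper26.HensPair
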