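import Mathlib
import Groth.Agent.Lib.Helper26.HensPair

/-! Retractions of étale algebras over a Henselian pair that are isomorphisms modulo `I`. -/

set_option autoImplicit false
universe u

namespace Groth.Agent.Helper26.HensPair

/-- If `(A, I)` is Henselian and `A'` is étale over `A` with `A/I → A'/IA'` bijective, then there is
a retraction `τ : A' → A` compatible with the identification `A/I = A'/IA'`. -/
theorem exists_retraction {A A' : Type u} [CommRing A] [CommRing A'] [Algebra A A']
    [Algebra.Etale A A'] (I : Ideal A) (hH : HenselianRing A I)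
    (hbij : Function.Bijective (algebraMap (A ⧸ I) (A' ⧸ I.map (algebraMap A A')))) :
    ∃ τ : A' →ₐ[A] A, ∀ x : A',
      algebraMap (A ⧸ I) (A' ⧸ I.map (algebraMap A A')) (Ideal.Quotient.mk I (τ x)) =
        Ideal.Quotient.mk _ x := by
  let e : (A ⧸ I) ≃+* (A' ⧸ I.map (algebraMap A A')) := RingEquiv.ofBijective _ hbij
  have he : ∀ y, e y = algebraMap (A ⧸ I) (A' ⧸ I.map (algebraMap A A')) y := fun _ => rfl
  let σ : A' →ₐ[A] A ⧸ I :=
    { toRingHom := e.symm.toRingHom.comp (Ideal.Quotient.mk (I.map (algebraMap A A')))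
      commutes' := fun a => by
        show e.symm (Ideal.Quotient.mk _ (algebraMap A A' a)) = algebraMap A (A ⧸ I) a
        rw [RingEquiv.symm_apply_eq, he]
        exact (Ideal.Quotient.algebraMap_quotient_map_quotient a).symm }
  have hσ : ∀ x, σ x = e.symm (Ideal.Quotient.mk _ x) := fun _ => rfl
  obtain ⟨τ, hτ⟩ := exists_section I hH σ
  refine ⟨τ, fun x => ?_⟩
  have h1 : Ideal.Quotient.mk I (τ x) = σ x := by
    rw [← hτ]; rfl
  rw [h1, hσ, ← he, RingEquiv.apply_symm_apply]

/-- Ring hom form of `exists_retraction`. -/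
theorem exists_retraction' {A A' : Type u} [CommRing A] [CommRing A'] [Algebra A A']
    [Algebra.Etale A A'] (I : Ideal A) (hH : HenselianRing A I)
    (hbij : Function.Bijective (algebraMap (A ⧸ I) (A' ⧸ I.map (algebraMap A A')))) :
    ∃ τ : A' →ₐ[A] A,
      ((algebraMap (A ⧸ I) (A' ⧸ I.map (algebraMap A A'))).comp (Ideal.Quotient.mk I)).comp
        (τ : A' →+* A) = Ideal.Quotient.mk (I.map (algebraMap A A')) := by
  obtain ⟨τ, hτ⟩ := exists_retraction I hH hbij
  exact ⟨τ, RingHom.ext fun x => hτ x⟩

end Groth.Agent.Helper26.HensPair
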