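import Mathlib

/-!
# Weakly directed systems of modules and tensor products

A "weak directed system" consists of modules `N i` indexed by a directed preorder, maps
`g i : N i → P` to a target, and a class `T` of admissible transition maps (closed under
composition, containing identities, compatible with the `g i`, and containing at least one
map `N i → N k` whenever `i ≤ k`), such that the `g i` are jointly surjective and every
element killed by `g i` is killed by some admissible transition.  No functoriality of the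
transition maps is assumed.  We show that such systems are stable under tensoring with a
fixed module.
-/

set_option autoImplicit false

open TensorProduct

namespace Groth.Agent.Helper26

/-- A weak directed system of modules with "colimit" `P`. -/
structure WeakDirSys {Λ : Type*} [CommRing Λ] {ι : Type*} [Preorder ι]
    (N : ι → Type*) [∀ i, AddCommGroup (N i)] [∀ i, Module Λ (N i)]
    {P : Type*} [AddCommGroup P] [Module Λ P]
    (g : ∀ i, N i →ₗ[Λ] P) (T : ∀ i k, (N i →ₗ[Λ] N k) → Prop) : Prop where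
  id : ∀ i, T i i LinearMap.id
  comp : ∀ {i j k : ι} {ψ : N i →ₗ[Λ] N j} {ψ' : N j →ₗ[Λ] N k},
    T i j ψ → T j k ψ' → T i k (ψ' ∘ₗ ψ)
  compat : ∀ {i k : ι} {ψ : N i →ₗ[Λ] N k}, T i k ψ → (g k) ∘ₗ ψ = g i
  le : ∀ i k, i ≤ k → ∃ ψ, T i k ψ
  surj : ∀ a : P, ∃ i, ∃ x : N i, g i x = a
  ker : ∀ i (x : N i), g i x = 0 → ∃ k, ∃ ψ, T i k ψ ∧ ψ x = 0

namespace WeakDirSys

variable {Λ : Type*} [CommRing Λ] {ι : Type*} [Preorder ι] [IsDirected ι (· ≤ ·)] [Nonempty ι]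
  {N : ι → Type*} [∀ i, AddCommGroup (N i)] [∀ i, Module Λ (N i)]
  {P : Type*} [AddCommGroup P] [Module Λ P]
  {g : ∀ i, N i →ₗ[Λ] P} {T : ∀ i k, (N i →ₗ[Λ] N k) → Prop}

omit [IsDirected ι (· ≤ ·)] [Nonempty ι] in
theorem compat_apply (h : WeakDirSys N g T) {i k : ι} {ψ : N i →ₗ[Λ] N k} (hψ : T i k ψ)
    (x : N i) : g k (ψ x) = g i x := by
  rw [← h.compat hψ]; rfl

theorem directed (h : WeakDirSys N g T) (i j : ι) :
    ∃ k, ∃ ψ : N i →ₗ[Λ] N k, ∃ ψ' : N j →ₗ[Λ] N k, T i k ψ ∧ T j k ψ' := by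
  obtain ⟨k, hik, hjk⟩ := exists_ge_ge i j
  obtain ⟨ψ, hψ⟩ := h.le i k hik
  obtain ⟨ψ', hψ'⟩ := h.le j k hjk
  exact ⟨k, ψ, ψ', hψ, hψ'⟩

omit [IsDirected ι (· ≤ ·)] [Nonempty ι] in
/-- Finitely many elements of the kernel can be killed simultaneously. -/
theorem kill_finset (h : WeakDirSys N g T) {i : ι} (s : Finset (N i))
    (hs : ∀ x ∈ s, g i x = 0) : ∃ k, ∃ ψ, T i k ψ ∧ ∀ x ∈ s, ψ x = 0 := by
  classical
  induction s using Finset.induction_on with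
  | empty => exact ⟨i, LinearMap.id, h.id i, by simp⟩
  | insert a s _ ih =>
    obtain ⟨k, ψ, hψ, hk⟩ := ih (fun x hx => hs x (Finset.mem_insert_of_mem hx))
    have ha : g k (ψ a) = 0 := by
      rw [h.compat_apply hψ]; exact hs a (Finset.mem_insert_self a s)
    obtain ⟨k', ψ', hψ', hk'⟩ := h.ker k (ψ a) ha
    refine ⟨k', ψ' ∘ₗ ψ, h.comp hψ hψ', ?_⟩
    intro x hx
    rcases Finset.mem_insert.mp hx with rfl | hx
    · exact hk'
    · rw [LinearMap.comp_apply, hk x hx, map_zero]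

/-- Finitely many elements of the colimit lift to a common level. -/
theorem lift_finset (h : WeakDirSys N g T) (s : Finset P) :
    ∃ i, ∀ a ∈ s, ∃ x : N i, g i x = a := by
  classical
  induction s using Finset.induction_on with
  | empty => exact ⟨Classical.arbitrary ι, by simp⟩
  | insert a s _ ih =>
    obtain ⟨i, hi⟩ := ih
    obtain ⟨j, y, hy⟩ := h.surj a
    obtain ⟨k, ψ, ψ', hψ, hψ'⟩ := h.directed i j
    refine ⟨k, ?_⟩
    intro b hb
    rcases Finset.mem_insert.mp hb with rfl | hb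
    · exact ⟨ψ' y, by rw [h.compat_apply hψ', hy]⟩
    · obtain ⟨x, hx⟩ := hi b hb
      exact ⟨ψ x, by rw [h.compat_apply hψ, hx]⟩

/-- Finitely many elements of the colimit lift to a common level above a given one. -/
theorem lift_finset_above (h : WeakDirSys N g T) (s : Finset P) (i₀ : ι) :
    ∃ i, ∃ ψ₀ : N i₀ →ₗ[Λ] N i, T i₀ i ψ₀ ∧ ∀ a ∈ s, ∃ x : N i, g i x = a := by
  obtain ⟨i, hi⟩ := h.lift_finset s
  obtain ⟨k, ψ, ψ', hψ, hψ'⟩ := h.directed i₀ i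
  refine ⟨k, ψ, hψ, ?_⟩
  intro b hb
  obtain ⟨x, hx⟩ := hi b hb
  exact ⟨ψ' x, by rw [h.compat_apply hψ', hx]⟩

/-- Key lemma: kernels die in the tensored system (right tensor form). -/
theorem ker_rTensor (h : WeakDirSys N g T) (M : Type*) [AddCommGroup M] [Module Λ M]
    {i : ι} (z : N i ⊗[Λ] M) (hz : (g i).rTensor M z = 0) :
    ∃ k, ∃ ψ, T i k ψ ∧ ψ.rTensor M z = 0 := by
  classical
  let Pr : ι → Submodule Λ P := fun i => LinearMap.range (g i)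
  have mono : ∀ i j, i ≤ j → Pr i ≤ Pr j := by
    intro i j hij
    obtain ⟨ψ, hψ⟩ := h.le i j hij
    rintro _ ⟨x, rfl⟩
    exact ⟨ψ x, h.compat_apply hψ x⟩
  let incl : ∀ i j, i ≤ j → Pr i →ₗ[Λ] Pr j := fun i j hij => Submodule.inclusion (mono i j hij)
  have : DirectedSystem (fun i => Pr i) (fun i j hij => incl i j hij) :=
    ⟨fun _ _ => rfl, fun _ _ _ _ _ _ => rfl⟩
  let e : Module.DirectLimit (fun i => Pr i) incl ≃ₗ[Λ] P :=
    .ofBijective (Module.DirectLimit.lift _ _ _ _ (fun i => (Pr i).subtype) fun _ _ _ _ => rfl)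
      ⟨Module.DirectLimit.lift_injective _ _ fun _ => Subtype.val_injective, fun a => by
        obtain ⟨i, x, rfl⟩ := h.surj a
        exact ⟨Module.DirectLimit.of _ _ _ _ i ⟨g i x, x, rfl⟩, Module.DirectLimit.lift_of ..⟩⟩
  have e_of : ∀ i, e.toLinearMap ∘ₗ Module.DirectLimit.of _ _ _ _ i = (Pr i).subtype := by
    intro i; ext; simp [e]
  let zbar : Pr i ⊗[Λ] M := (g i).rangeRestrict.rTensor M z
  have hzbar : (Pr i).subtype.rTensor M zbar = (Pr i).subtype.rTensor M 0 := by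
    rw [map_zero, ← hz, ← LinearMap.rTensor_comp_apply]
    rfl
  apply_fun e.symm.toLinearMap.rTensor M at hzbar
  apply_fun TensorProduct.directLimitLeft _ _ at hzbar
  simp_rw [← LinearMap.rTensor_comp_apply, ← (LinearEquiv.eq_toLinearMap_symm_comp _ _).mpr
    (e_of i), TensorProduct.directLimitLeft_rTensor_of] at hzbar
  obtain ⟨j, hij, eq⟩ := Module.DirectLimit.exists_eq_of_of_eq hzbar
  rw [map_zero] at eq
  obtain ⟨ψ, hψ⟩ := h.le i j hij
  -- the image of z at level j maps to zero in `Pr j ⊗ M`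
  have hcomm : (g j).rangeRestrict ∘ₗ ψ = (incl i j hij) ∘ₗ (g i).rangeRestrict := by
    ext x
    exact h.compat_apply hψ x
  have hz' : (g j).rangeRestrict.rTensor M (ψ.rTensor M z) = 0 := by
    rw [← LinearMap.rTensor_comp_apply, hcomm, LinearMap.rTensor_comp_apply]
    exact eq
  -- right exactness
  have hex : Function.Exact ((LinearMap.ker (g j).rangeRestrict).subtype.rTensor M)
      ((g j).rangeRestrict.rTensor M) :=
    rTensor_exact M (LinearMap.exact_subtype_ker_map _) (LinearMap.surjective_rangeRestrict _)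
  obtain ⟨w, hw⟩ := (hex _).mp hz'
  obtain ⟨S, hS⟩ := TensorProduct.exists_finset w
  have hker : ∀ x ∈ S.image (fun p => ((p.1 : LinearMap.ker (g j).rangeRestrict) : N j)),
      g j x = 0 := by
    intro x hx
    obtain ⟨p, _, rfl⟩ := Finset.mem_image.mp hx
    have := p.1.2
    rw [LinearMap.mem_ker] at this
    exact congrArg Subtype.val this
  obtain ⟨k, ψ', hψ', hk⟩ := h.kill_finset _ hker
  refine ⟨k, ψ' ∘ₗ ψ, h.comp hψ hψ', ?_⟩
  rw [LinearMap.rTensor_comp_apply, ← hw, ← LinearMap.rTensor_comp_apply, hS, map_sum]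
  refine Finset.sum_eq_zero fun p hp => ?_
  rw [LinearMap.rTensor_tmul, LinearMap.comp_apply, Submodule.subtype_apply,
    hk _ (Finset.mem_image_of_mem _ hp), zero_tmul]

/-- Kernels die in the tensored system (left tensor form). -/
theorem ker_lTensor (h : WeakDirSys N g T) (M : Type*) [AddCommGroup M] [Module Λ M]
    {i : ι} (z : M ⊗[Λ] N i) (hz : (g i).lTensor M z = 0) :
    ∃ k, ∃ ψ, T i k ψ ∧ ψ.lTensor M z = 0 := by
  have h1 : (g i).rTensor M (TensorProduct.comm Λ M (N i) z) = 0 := by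
    rw [LinearMap.rTensor_comm, hz, map_zero]
  obtain ⟨k, ψ, hψ, hk⟩ := h.ker_rTensor M _ h1
  refine ⟨k, ψ, hψ, ?_⟩
  rw [LinearMap.rTensor_comm] at hk
  exact (TensorProduct.comm Λ M (N k)).injective (by rw [hk, map_zero])

/-- Joint surjectivity of the tensored system (right tensor form). -/
theorem surj_rTensor (h : WeakDirSys N g T) (M : Type*) [AddCommGroup M] [Module Λ M]
    (a : P ⊗[Λ] M) : ∃ i, ∃ x : N i ⊗[Λ] M, (g i).rTensor M x = a := by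
  induction a using TensorProduct.induction_on with
  | zero => exact ⟨Classical.arbitrary ι, 0, map_zero _⟩
  | tmul p m =>
    obtain ⟨i, x, rfl⟩ := h.surj p
    exact ⟨i, x ⊗ₜ m, rfl⟩
  | add a b ha hb =>
    obtain ⟨i, x, rfl⟩ := ha
    obtain ⟨j, y, rfl⟩ := hb
    obtain ⟨k, ψ, ψ', hψ, hψ'⟩ := h.directed i j
    refine ⟨k, ψ.rTensor M x + ψ'.rTensor M y, ?_⟩
    rw [map_add, ← LinearMap.rTensor_comp_apply, ← LinearMap.rTensor_comp_apply,
      h.compat hψ, h.compat hψ']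

/-- Joint surjectivity of the tensored system (left tensor form). -/
theorem surj_lTensor (h : WeakDirSys N g T) (M : Type*) [AddCommGroup M] [Module Λ M]
    (a : M ⊗[Λ] P) : ∃ i, ∃ x : M ⊗[Λ] N i, (g i).lTensor M x = a := by
  induction a using TensorProduct.induction_on with
  | zero => exact ⟨Classical.arbitrary ι, 0, map_zero _⟩
  | tmul m p =>
    obtain ⟨i, x, rfl⟩ := h.surj p
    exact ⟨i, m ⊗ₜ x, rfl⟩
  | add a b ha hb =>
    obtain ⟨i, x, rfl⟩ := ha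
    obtain ⟨j, y, rfl⟩ := hb
    obtain ⟨k, ψ, ψ', hψ, hψ'⟩ := h.directed i j
    refine ⟨k, ψ.lTensor M x + ψ'.lTensor M y, ?_⟩
    rw [map_add, ← LinearMap.lTensor_comp_apply, ← LinearMap.lTensor_comp_apply,
      h.compat hψ, h.compat hψ']

/-- The tensored system (right tensor form) is again a weak directed system. -/
theorem rTensor (h : WeakDirSys N g T) (M : Type*) [AddCommGroup M] [Module Λ M] :
    WeakDirSys (fun i => N i ⊗[Λ] M) (fun i => (g i).rTensor M)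
      (fun i k ψ' => ∃ ψ, T i k ψ ∧ ψ' = ψ.rTensor M) where
  id i := ⟨LinearMap.id, h.id i, (LinearMap.rTensor_id M (N i)).symm⟩
  comp := by
    rintro i j k _ _ ⟨ψ, hψ, rfl⟩ ⟨ψ', hψ', rfl⟩
    exact ⟨ψ' ∘ₗ ψ, h.comp hψ hψ', (LinearMap.rTensor_comp M ψ' ψ).symm⟩
  compat := by
    rintro i k _ ⟨ψ, hψ, rfl⟩
    rw [← LinearMap.rTensor_comp, h.compat hψ]
  le i k hik := by
    obtain ⟨ψ, hψ⟩ := h.le i k hik
    exact ⟨_, ψ, hψ, rfl⟩
  surj := h.surj_rTensor M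
  ker i x hx := by
    obtain ⟨k, ψ, hψ, hk⟩ := h.ker_rTensor M x hx
    exact ⟨k, _, ⟨ψ, hψ, rfl⟩, hk⟩

/-- The tensored system (left tensor form) is again a weak directed system. -/
theorem lTensor (h : WeakDirSys N g T) (M : Type*) [AddCommGroup M] [Module Λ M] :
    WeakDirSys (fun i => M ⊗[Λ] N i) (fun i => (g i).lTensor M)
      (fun i k ψ' => ∃ ψ, T i k ψ ∧ ψ' = ψ.lTensor M) where
  id i := ⟨LinearMap.id, h.id i, (LinearMap.lTensor_id M (N i)).symm⟩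
  comp := by
    rintro i j k _ _ ⟨ψ, hψ, rfl⟩ ⟨ψ', hψ', rfl⟩
    exact ⟨ψ' ∘ₗ ψ, h.comp hψ hψ', (LinearMap.lTensor_comp M ψ' ψ).symm⟩
  compat := by
    rintro i k _ ⟨ψ, hψ, rfl⟩
    rw [← LinearMap.lTensor_comp, h.compat hψ]
  le i k hik := by
    obtain ⟨ψ, hψ⟩ := h.le i k hik
    exact ⟨_, ψ, hψ, rfl⟩
  surj := h.surj_lTensor M
  ker i x hx := by
    obtain ⟨k, ψ, hψ, hk⟩ := h.ker_lTensor M x hx
    exact ⟨k, _, ⟨ψ, hψ, rfl⟩, hk⟩

end WeakDirSys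

/-! ## The concrete system `B₀ ⊗[A₀] G i` -/

section Concrete

universe u

variable {ι : Type u} [Preorder ι] [IsDirected ι (· ≤ ·)] [Nonempty ι]
    {A₀ : Type u} [CommRing A₀] {G : ι → Type u} [∀ i, CommRing (G i)] [∀ i, Algebra A₀ (G i)]
    (f : ∀ i j, i ≤ j → (G i →ₐ[A₀] G j)) {A : Type u} [CommRing A] [Algebra A₀ A]
    (g : ∀ i, G i →ₐ[A₀] A)

/-- The transition class at the level of the `G i`: all `A₀`-algebra maps over `A`. -/
def TG (i k : ι) (ψ : G i →ₗ[A₀] G k) : Prop :=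
  ∃ φ : G i →ₐ[A₀] G k, (g k).comp φ = g i ∧ ψ = φ.toLinearMap

omit [IsDirected ι (· ≤ ·)] [Nonempty ι] in
theorem sysG (hg : ∀ i j (h : i ≤ j), (g j).comp (f i j h) = g i)
    (hsurj : ∀ a : A, ∃ i, ∃ x : G i, g i x = a)
    (hker : ∀ i (x : G i), g i x = 0 → ∃ j, ∃ h : i ≤ j, f i j h x = 0) :
    WeakDirSys G (fun i => (g i).toLinearMap) (TG g) where
  id i := ⟨AlgHom.id A₀ (G i), rfl, rfl⟩
  comp := by
    rintro i j k _ _ ⟨φ, hφ, rfl⟩ ⟨φ', hφ', rfl⟩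
    exact ⟨φ'.comp φ, by rw [← AlgHom.comp_assoc, hφ', hφ], rfl⟩
  compat := by
    rintro i k _ ⟨φ, hφ, rfl⟩
    ext x
    exact DFunLike.congr_fun hφ x
  le i k hik := ⟨_, f i k hik, hg i k hik, rfl⟩
  surj := hsurj
  ker i x hx := by
    obtain ⟨j, hij, hj⟩ := hker i x hx
    exact ⟨j, _, ⟨f i j hij, hg i j hij, rfl⟩, hj⟩

variable (B₀ : Type u) [CommRing B₀] [Algebra A₀ B₀]

/-- The map `B₀ ⊗ X → B₀ ⊗ Y` induced by `φ : X → Y`. -/
noncomputable abbrev Rm {X Y : Type u} [CommRing X] [Algebra A₀ X] [CommRing Y] [Algebra A₀ Y]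
    (φ : X →ₐ[A₀] Y) : B₀ ⊗[A₀] X →ₐ[B₀] B₀ ⊗[A₀] Y :=
  Algebra.TensorProduct.map (AlgHom.id B₀ B₀) φ

theorem Rm_apply {X Y : Type u} [CommRing X] [Algebra A₀ X] [CommRing Y] [Algebra A₀ Y]
    (φ : X →ₐ[A₀] Y) (x : B₀ ⊗[A₀] X) : Rm B₀ φ x = φ.toLinearMap.lTensor B₀ x := by
  induction x using TensorProduct.induction_on with
  | zero => simp
  | tmul b x => simp
  | add a b ha hb => simp only [map_add, ha, hb]

theorem Rm_comp {X Y Z : Type u} [CommRing X] [Algebra A₀ X] [CommRing Y] [Algebra A₀ Y]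
    [CommRing Z] [Algebra A₀ Z] (φ' : Y →ₐ[A₀] Z) (φ : X →ₐ[A₀] Y) :
    Rm B₀ (φ'.comp φ) = (Rm B₀ φ').comp (Rm B₀ φ) :=
  Algebra.TensorProduct.map_id_comp φ' φ

theorem Rm_id {X : Type u} [CommRing X] [Algebra A₀ X] :
    Rm B₀ (AlgHom.id A₀ X) = AlgHom.id B₀ _ :=
  Algebra.TensorProduct.map_id

/-- The transition class at the level of `B₀ ⊗ G i`. -/
def TR (i k : ι) (ψ : B₀ ⊗[A₀] G i →ₗ[B₀] B₀ ⊗[A₀] G k) : Prop :=
  ∃ φ : G i →ₐ[A₀] G k, (g k).comp φ = g i ∧ ψ = (Rm B₀ φ).toLinearMap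

theorem sysR (hg : ∀ i j (h : i ≤ j), (g j).comp (f i j h) = g i)
    (hsurj : ∀ a : A, ∃ i, ∃ x : G i, g i x = a)
    (hker : ∀ i (x : G i), g i x = 0 → ∃ j, ∃ h : i ≤ j, f i j h x = 0) :
    WeakDirSys (fun i => B₀ ⊗[A₀] G i) (fun i => (Rm B₀ (g i)).toLinearMap) (TR g B₀) where
  id i := ⟨AlgHom.id A₀ (G i), rfl, by rw [Rm_id]; rfl⟩
  comp := by
    rintro i j k _ _ ⟨φ, hφ, rfl⟩ ⟨φ', hφ', rfl⟩
    exact ⟨φ'.comp φ, by rw [← AlgHom.comp_assoc, hφ', hφ], by rw [Rm_comp]; rfl⟩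
  compat := by
    rintro i k _ ⟨φ, hφ, rfl⟩
    rw [← hφ, Rm_comp]; rfl
  le i k hik := ⟨_, f i k hik, hg i k hik, rfl⟩
  surj a := by
    obtain ⟨i, x, hx⟩ := (sysG f g hg hsurj hker).surj_lTensor B₀ a
    exact ⟨i, x, by rw [← hx]; exact Rm_apply B₀ (g i) x⟩
  ker i x hx := by
    have hx' : (g i).toLinearMap.lTensor B₀ x = 0 := by rw [← Rm_apply]; exact hx
    obtain ⟨k, ψ, ⟨φ, hφ, rfl⟩, hk⟩ := (sysG f g hg hsurj hker).ker_lTensor B₀ x hx'
    exact ⟨k, _, ⟨φ, hφ, rfl⟩, by rw [← hk]; exact Rm_apply B₀ φ x⟩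

/-- Hypotheses bundle: `A` is the (weak) colimit of the `G i`. -/
structure IsWeakColim : Prop where
  hg : ∀ i j (h : i ≤ j), (g j).comp (f i j h) = g i
  hsurj : ∀ a : A, ∃ i, ∃ x : G i, g i x = a
  hker : ∀ i (x : G i), g i x = 0 → ∃ j, ∃ h : i ≤ j, f i j h x = 0

variable {f g}

theorem IsWeakColim.sysR (H : IsWeakColim f g) :
    WeakDirSys (fun i => B₀ ⊗[A₀] G i) (fun i => (Rm B₀ (g i)).toLinearMap) (TR g B₀) :=
  Helper26.sysR f g B₀ H.hg H.hsurj H.hker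

omit [IsDirected ι (· ≤ ·)] [Nonempty ι] in
theorem IsWeakColim.exists_trans (H : IsWeakColim f g) {i k : ι} (hik : i ≤ k) :
    ∃ φ : G i →ₐ[A₀] G k, (g k).comp φ = g i := ⟨f i k hik, H.hg i k hik⟩

omit [Nonempty ι] in
theorem IsWeakColim.exists_trans₂ (H : IsWeakColim f g) (i j : ι) :
    ∃ k, ∃ φ : G i →ₐ[A₀] G k, ∃ φ' : G j →ₐ[A₀] G k, (g k).comp φ = g i ∧ (g k).comp φ' = g j := by
  obtain ⟨k, hik, hjk⟩ := exists_ge_ge i j
  exact ⟨k, f i k hik, f j k hjk, H.hg i k hik, H.hg j k hjk⟩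

section Mod

variable {B₀}
variable (M : Type u) [AddCommGroup M] [Module B₀ M]

theorem IsWeakColim.M_lift_finset (H : IsWeakColim f g) (s : Finset ((B₀ ⊗[A₀] A) ⊗[B₀] M)) :
    ∃ i, ∀ a ∈ s, ∃ x : (B₀ ⊗[A₀] G i) ⊗[B₀] M, (Rm B₀ (g i)).toLinearMap.rTensor M x = a :=
  ((H.sysR B₀).rTensor M).lift_finset s

theorem IsWeakColim.M_kill_finset (H : IsWeakColim f g) {i : ι}
    (s : Finset ((B₀ ⊗[A₀] G i) ⊗[B₀] M))
    (hs : ∀ x ∈ s, (Rm B₀ (g i)).toLinearMap.rTensor M x = 0) :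
    ∃ k, ∃ φ : G i →ₐ[A₀] G k, (g k).comp φ = g i ∧
      ∀ x ∈ s, (Rm B₀ φ).toLinearMap.rTensor M x = 0 := by
  obtain ⟨k, _, ⟨_, ⟨φ, hφ, rfl⟩, rfl⟩, hk⟩ := ((H.sysR B₀).rTensor M).kill_finset s hs
  exact ⟨k, φ, hφ, hk⟩

end Mod

section Alg

variable {B₀}
variable (C : Type u) [CommRing C] [Algebra B₀ C]

/-- The map `(B₀ ⊗ X) ⊗[B₀] C → (B₀ ⊗ Y) ⊗[B₀] C` induced by `φ : X → Y`. -/
noncomputable abbrev Sm {X Y : Type u} [CommRing X] [Algebra A₀ X] [CommRing Y] [Algebra A₀ Y]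
    (φ : X →ₐ[A₀] Y) : (B₀ ⊗[A₀] X) ⊗[B₀] C →ₐ[B₀] (B₀ ⊗[A₀] Y) ⊗[B₀] C :=
  Algebra.TensorProduct.map (Rm B₀ φ) (AlgHom.id B₀ C)

theorem Sm_apply {X Y : Type u} [CommRing X] [Algebra A₀ X] [CommRing Y] [Algebra A₀ Y]
    (φ : X →ₐ[A₀] Y) (x : (B₀ ⊗[A₀] X) ⊗[B₀] C) :
    Sm C φ x = (Rm B₀ φ).toLinearMap.rTensor C x := by
  induction x using TensorProduct.induction_on with
  | zero => simp
  | tmul b x => rfl
  | add a b ha hb => simp only [map_add, ha, hb]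

theorem Sm_comp {X Y Z : Type u} [CommRing X] [Algebra A₀ X] [CommRing Y] [Algebra A₀ Y]
    [CommRing Z] [Algebra A₀ Z] (φ' : Y →ₐ[A₀] Z) (φ : X →ₐ[A₀] Y) :
    Sm C (φ'.comp φ) = (Sm (B₀ := B₀) C φ').comp (Sm C φ) := by
  unfold Sm
  rw [Rm_comp]
  exact Algebra.TensorProduct.ext (AlgHom.ext fun _ => rfl) (AlgHom.ext fun _ => rfl)

theorem Sm_comp_apply {X Y Z : Type u} [CommRing X] [Algebra A₀ X] [CommRing Y] [Algebra A₀ Y]
    [CommRing Z] [Algebra A₀ Z] (φ' : Y →ₐ[A₀] Z) (φ : X →ₐ[A₀] Y) (x) :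
    Sm (B₀ := B₀) C φ' (Sm C φ x) = Sm C (φ'.comp φ) x := by
  rw [Sm_comp]; rfl

theorem Sm_id {X : Type u} [CommRing X] [Algebra A₀ X] :
    Sm (B₀ := B₀) C (AlgHom.id A₀ X) = AlgHom.id B₀ _ := by
  unfold Sm
  rw [Rm_id, Algebra.TensorProduct.map_id]

theorem Sm_algebraMap {X Y : Type u} [CommRing X] [Algebra A₀ X] [CommRing Y] [Algebra A₀ Y]
    (φ : X →ₐ[A₀] Y) (r : B₀ ⊗[A₀] X) :
    Sm C φ (algebraMap (B₀ ⊗[A₀] X) ((B₀ ⊗[A₀] X) ⊗[B₀] C) r) =
      algebraMap (B₀ ⊗[A₀] Y) ((B₀ ⊗[A₀] Y) ⊗[B₀] C) (Rm B₀ φ r) := by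
  simp [Algebra.TensorProduct.algebraMap_apply]

theorem IsWeakColim.C_lift_finset (H : IsWeakColim f g) (s : Finset ((B₀ ⊗[A₀] A) ⊗[B₀] C)) :
    ∃ i, ∀ a ∈ s, ∃ x : (B₀ ⊗[A₀] G i) ⊗[B₀] C, Sm C (g i) x = a := by
  obtain ⟨i, hi⟩ := H.M_lift_finset C s
  exact ⟨i, fun a ha => by obtain ⟨x, hx⟩ := hi a ha; exact ⟨x, by rw [Sm_apply, hx]⟩⟩

theorem IsWeakColim.C_kill_finset (H : IsWeakColim f g) {i : ι}
    (s : Finset ((B₀ ⊗[A₀] G i) ⊗[B₀] C)) (hs : ∀ x ∈ s, Sm C (g i) x = 0) :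
    ∃ k, ∃ φ : G i →ₐ[A₀] G k, (g k).comp φ = g i ∧ ∀ x ∈ s, Sm C φ x = 0 := by
  obtain ⟨k, φ, hφ, hk⟩ := H.M_kill_finset C s (fun x hx => by rw [← Sm_apply]; exact hs x hx)
  exact ⟨k, φ, hφ, fun x hx => by rw [Sm_apply]; exact hk x hx⟩

/-- Tool 2: two maps from a finite type algebra which agree in the colimit agree at a finite
level. -/
theorem IsWeakColim.eq_of_finiteType (H : IsWeakColim f g) (C' : Type u) [CommRing C']
    [Algebra B₀ C'] [Algebra.FiniteType B₀ C'] {i : ι}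
    (τ τ' : C' →ₐ[B₀] (B₀ ⊗[A₀] G i) ⊗[B₀] C)
    (h : (Sm C (g i)).comp τ = (Sm C (g i)).comp τ') :
    ∃ k, ∃ φ : G i →ₐ[A₀] G k, (g k).comp φ = g i ∧ (Sm C φ).comp τ = (Sm C φ).comp τ' := by
  classical
  obtain ⟨s, hs⟩ := (Algebra.FiniteType.out : (⊤ : Subalgebra B₀ C').FG)
  obtain ⟨k, φ, hφ, hk⟩ := H.C_kill_finset C (s.image fun c => τ c - τ' c) (by
    intro x hx
    obtain ⟨c, _, rfl⟩ := Finset.mem_image.mp hx
    rw [map_sub, sub_eq_zero]
    exact DFunLike.congr_fun h c)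
  refine ⟨k, φ, hφ, AlgHom.ext_of_adjoin_eq_top hs ?_⟩
  intro c hc
  have := hk _ (Finset.mem_image_of_mem _ hc)
  rw [map_sub, sub_eq_zero] at this
  exact this

/-- Tool 1: a map from a finitely presented algebra to the colimit lifts to a finite level. -/
theorem IsWeakColim.lift_of_finitePresentation (H : IsWeakColim f g) (C' : Type u) [CommRing C']
    [Algebra B₀ C'] [Algebra.FinitePresentation B₀ C']
    (τ : C' →ₐ[B₀] (B₀ ⊗[A₀] A) ⊗[B₀] C) :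
    ∃ k, ∃ τk : C' →ₐ[B₀] (B₀ ⊗[A₀] G k) ⊗[B₀] C, (Sm C (g k)).comp τk = τ := by
  classical
  obtain ⟨n, f₀, hf₀, hfg⟩ := Algebra.FinitePresentation.out (R := B₀) (A := C')
  obtain ⟨s, hs⟩ := hfg
  -- lift the images of the variables
  obtain ⟨i, hi⟩ := H.C_lift_finset C (Finset.univ.image fun l : Fin n => τ (f₀ (MvPolynomial.X l)))
  choose y hy using fun l : Fin n => hi _ (Finset.mem_image_of_mem _ (Finset.mem_univ l))
  let a : MvPolynomial (Fin n) B₀ →ₐ[B₀] (B₀ ⊗[A₀] G i) ⊗[B₀] C := MvPolynomial.aeval y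
  have ha : (Sm C (g i)).comp a = τ.comp f₀ := by
    apply MvPolynomial.algHom_ext
    intro l
    simp only [AlgHom.comp_apply, a, MvPolynomial.aeval_X, hy]
  -- kill the relations
  obtain ⟨k, φ, hφ, hk⟩ := H.C_kill_finset C (s.image a) (by
    intro x hx
    obtain ⟨p, hp, rfl⟩ := Finset.mem_image.mp hx
    have h1 : Sm C (g i) (a p) = τ (f₀ p) := DFunLike.congr_fun ha p
    rw [h1]
    have h2 : p ∈ RingHom.ker f₀.toRingHom := by
      rw [← hs]; exact Ideal.subset_span hp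
    rw [RingHom.mem_ker] at h2
    change τ (f₀ p) = 0
    rw [show f₀ p = 0 from h2, map_zero])
  have hle : RingHom.ker f₀.toRingHom ≤ RingHom.ker ((Sm C φ).comp a).toRingHom := by
    rw [← hs, Ideal.span_le]
    intro p hp
    exact hk _ (Finset.mem_image_of_mem _ hp)
  refine ⟨k, AlgHom.liftOfSurjective f₀ hf₀ ((Sm C φ).comp a) hle, ?_⟩
  apply AlgHom.ext
  intro c
  obtain ⟨p, rfl⟩ := hf₀ c
  rw [AlgHom.comp_apply, AlgHom.liftOfSurjective_apply, AlgHom.comp_apply, Sm_comp_apply, hφ]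
  exact DFunLike.congr_fun ha p

end Alg

end Concrete

end Groth.Agent.Helper26
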