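import Mathlib
import Groth.Agent.Lib.Helper26.ColimDescent

/-!
# Descending properties of base changes to a finite level of a (weak) colimit
-/

set_option autoImplicit false

open TensorProduct

namespace Groth.Agent.Helper26

universe u

section General

variable {B₀ : Type u} [CommRing B₀] (R' : Type u) [CommRing R'] [Algebra B₀ R']
  (C : Type u) [CommRing C] [Algebra B₀ C]

theorem algebraMap_tmul_one_eq (b : B₀) :
    (algebraMap B₀ R' b) ⊗ₜ[B₀] (1 : C) = (1 : R') ⊗ₜ[B₀] algebraMap B₀ C b := by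
  rw [Algebra.algebraMap_eq_smul_one (A := R'), Algebra.algebraMap_eq_smul_one (A := C),
    TensorProduct.smul_tmul]

theorem algebraMap_algebraMap_eq (b : B₀) :
    algebraMap R' (R' ⊗[B₀] C) (algebraMap B₀ R' b) = (1 : R') ⊗ₜ[B₀] algebraMap B₀ C b := by
  rw [Algebra.TensorProduct.algebraMap_apply, ← algebraMap_tmul_one_eq]
  rfl

/-- If `1 ⊗ c` is in the image of `R'` for generators `c` of `C`, then `R' → R' ⊗ C` is
surjective. -/
theorem surjective_algebraMap_of_gens (s : Set C) (hs : Algebra.adjoin B₀ s = ⊤)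
    (h : ∀ c ∈ s, ∃ r : R', algebraMap R' (R' ⊗[B₀] C) r = 1 ⊗ₜ c) :
    Function.Surjective (algebraMap R' (R' ⊗[B₀] C)) := by
  have key : ∀ c : C, ∃ r : R', algebraMap R' (R' ⊗[B₀] C) r = 1 ⊗ₜ c := by
    intro c
    have hc : c ∈ Algebra.adjoin B₀ s := by rw [hs]; trivial
    induction hc using Algebra.adjoin_induction with
    | mem x hx => exact h x hx
    | algebraMap b =>
      exact ⟨algebraMap B₀ R' b, algebraMap_algebraMap_eq R' C b⟩
    | add x y _ _ hx hy =>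
      obtain ⟨r, hr⟩ := hx
      obtain ⟨r', hr'⟩ := hy
      exact ⟨r + r', by rw [map_add, hr, hr', TensorProduct.tmul_add]⟩
    | mul x y _ _ hx hy =>
      obtain ⟨r, hr⟩ := hx
      obtain ⟨r', hr'⟩ := hy
      exact ⟨r * r', by rw [map_mul, hr, hr', Algebra.TensorProduct.tmul_mul_tmul, one_mul]⟩
  intro x
  induction x using TensorProduct.induction_on with
  | zero => exact ⟨0, map_zero _⟩
  | tmul r c =>
    obtain ⟨r', hr'⟩ := key c
    refine ⟨r * r', ?_⟩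
    rw [map_mul, hr', Algebra.TensorProduct.algebraMap_apply,
      Algebra.TensorProduct.tmul_mul_tmul, mul_one, one_mul]
    rfl
  | add x y hx hy =>
    obtain ⟨r, hr⟩ := hx
    obtain ⟨r', hr'⟩ := hy
    exact ⟨r + r', by rw [map_add, hr, hr']⟩

/-- `R' ⊗ C` is generated over `R'` by `1 ⊗ c` for generators `c` of `C`. -/
theorem adjoin_one_tmul_eq_top (s : Set C) (hs : Algebra.adjoin B₀ s = ⊤) :
    Algebra.adjoin R' ((fun c : C => (1 : R') ⊗ₜ[B₀] c) '' s) = ⊤ := by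
  have key : ∀ c : C, (1 : R') ⊗ₜ[B₀] c ∈ Algebra.adjoin R' ((fun c : C => (1 : R') ⊗ₜ[B₀] c) '' s) := by
    intro c
    have hc : c ∈ Algebra.adjoin B₀ s := by rw [hs]; trivial
    induction hc using Algebra.adjoin_induction with
    | mem x hx => exact Algebra.subset_adjoin ⟨x, hx, rfl⟩
    | algebraMap b =>
      rw [← algebraMap_algebraMap_eq R' C b]
      exact Subalgebra.algebraMap_mem _ _
    | add x y _ _ hx hy => rw [TensorProduct.tmul_add]; exact Subalgebra.add_mem _ hx hy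
    | mul x y _ _ hx hy =>
      have : (1 : R') ⊗ₜ[B₀] (x * y) = (1 ⊗ₜ x) * (1 ⊗ₜ y) := by
        rw [Algebra.TensorProduct.tmul_mul_tmul, one_mul]
      rw [this]; exact Subalgebra.mul_mem _ hx hy
  rw [eq_top_iff]
  rintro x -
  induction x using TensorProduct.induction_on with
  | zero => exact Subalgebra.zero_mem _
  | tmul r c =>
    have : r ⊗ₜ[B₀] c = r • ((1 : R') ⊗ₜ[B₀] c) := by
      rw [TensorProduct.smul_tmul', smul_eq_mul, mul_one]
    rw [this]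
    exact Subalgebra.smul_mem _ (key c) r
  | add x y hx hy => exact Subalgebra.add_mem _ hx hy

/-- If `1 ⊗ c` is integral over `R'` for finitely many generators `c`, then `R' ⊗ C` is finite. -/
theorem finite_of_gens_isIntegral (s : Finset C) (hs : Algebra.adjoin B₀ (s : Set C) = ⊤)
    (h : ∀ c ∈ s, IsIntegral R' ((1 : R') ⊗ₜ[B₀] c)) :
    Module.Finite R' (R' ⊗[B₀] C) := by
  have h1 := adjoin_one_tmul_eq_top R' C (s : Set C) hs
  have h2 : (Algebra.adjoin R' ((fun c : C => (1 : R') ⊗ₜ[B₀] c) '' (s : Set C))).toSubmodule.FG := by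
    apply fg_adjoin_of_finite (s.finite_toSet.image _)
    rintro _ ⟨c, hc, rfl⟩
    exact h c hc
  rw [h1, Algebra.top_toSubmodule] at h2
  exact ⟨h2⟩

/-- If `1 ⊗ ω = 0` for generators `ω` of `M` over `C`, then `R' ⊗ M = 0`. -/
theorem subsingleton_tensor_of_gens (M : Type u) [AddCommGroup M] [Module B₀ M] [Module C M]
    [IsScalarTower B₀ C M] (s : Set M) (hs : Submodule.span C s = ⊤)
    (h : ∀ ω ∈ s, (1 : R') ⊗ₜ[B₀] ω = 0) : Subsingleton (R' ⊗[B₀] M) := by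
  have key : ∀ (m : M) (r : R'), r ⊗ₜ[B₀] m = 0 := by
    intro m
    have hm : m ∈ Submodule.span C s := by rw [hs]; trivial
    induction hm using Submodule.span_induction with
    | mem ω hω =>
      intro r
      have : r ⊗ₜ[B₀] ω = r • ((1 : R') ⊗ₜ[B₀] ω) := by
        rw [TensorProduct.smul_tmul', smul_eq_mul, mul_one]
      rw [this, h ω hω, smul_zero]
    | zero => intro r; exact TensorProduct.tmul_zero _ _
    | add x y _ _ hx hy => intro r; rw [TensorProduct.tmul_add, hx, hy, add_zero]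
    | smul c x _ hx =>
      intro r
      have : r ⊗ₜ[B₀] (c • x) =
          LinearMap.lTensor R' (DistribSMul.toLinearMap B₀ M c) (r ⊗ₜ[B₀] x) := by
        rw [LinearMap.lTensor_tmul]; rfl
      rw [this, hx, map_zero]
  refine ⟨fun x y => ?_⟩
  have h0 : ∀ z : R' ⊗[B₀] M, z = 0 := by
    intro z
    induction z using TensorProduct.induction_on with
    | zero => rfl
    | tmul r m => exact key m r
    | add x y hx hy => rw [hx, hy, add_zero]
  rw [h0 x, h0 y]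

end General

section Eventually

variable {ι : Type u} [Preorder ι] [IsDirected ι (· ≤ ·)] [Nonempty ι]
    {A₀ : Type u} [CommRing A₀] {G : ι → Type u} [∀ i, CommRing (G i)] [∀ i, Algebra A₀ (G i)]
    {f : ∀ i j, i ≤ j → (G i →ₐ[A₀] G j)} {A : Type u} [CommRing A] [Algebra A₀ A]
    {g : ∀ i, G i →ₐ[A₀] A}
    {B₀ : Type u} [CommRing B₀] [Algebra A₀ B₀]

/-- `P` holds at all levels reachable from some level. -/
def Eventually (g : ∀ i, G i →ₐ[A₀] A) (P : ι → Prop) : Prop :=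
  ∃ k, ∀ k' (φ : G k →ₐ[A₀] G k'), (g k').comp φ = g k → P k'

omit [Preorder ι] [IsDirected ι (· ≤ ·)] [Nonempty ι] in
theorem Eventually.exists {P : ι → Prop} (h : Eventually g P) : ∃ k, P k := by
  obtain ⟨k, hk⟩ := h
  exact ⟨k, hk k (AlgHom.id A₀ (G k)) rfl⟩

omit [Preorder ι] [IsDirected ι (· ≤ ·)] [Nonempty ι] in
theorem Eventually.mono {P Q : ι → Prop} (h : Eventually g P) (hPQ : ∀ k, P k → Q k) :
    Eventually g Q := by
  obtain ⟨k, hk⟩ := h
  exact ⟨k, fun k' φ hφ => hPQ k' (hk k' φ hφ)⟩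

omit [Nonempty ι] in
theorem IsWeakColim.eventually_and (H : IsWeakColim f g) {P Q : ι → Prop}
    (hP : Eventually g P) (hQ : Eventually g Q) : Eventually g (fun k => P k ∧ Q k) := by
  obtain ⟨kP, hkP⟩ := hP
  obtain ⟨kQ, hkQ⟩ := hQ
  obtain ⟨k, φP, φQ, hφP, hφQ⟩ := H.exists_trans₂ kP kQ
  refine ⟨k, fun k' φ hφ => ⟨hkP k' (φ.comp φP) ?_, hkQ k' (φ.comp φQ) ?_⟩⟩
  · rw [← AlgHom.comp_assoc, hφ, hφP]
  · rw [← AlgHom.comp_assoc, hφ, hφQ]

variable (C : Type u) [CommRing C] [Algebra B₀ C]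

/-- Surjectivity descends to a finite level. -/
theorem IsWeakColim.eventually_surjective (H : IsWeakColim f g) [Algebra.FiniteType B₀ C]
    (h : Function.Surjective (algebraMap (B₀ ⊗[A₀] A) ((B₀ ⊗[A₀] A) ⊗[B₀] C))) :
    Eventually g fun k => Function.Surjective
      (algebraMap (B₀ ⊗[A₀] G k) ((B₀ ⊗[A₀] G k) ⊗[B₀] C)) := by
  classical
  obtain ⟨s, hs⟩ := (Algebra.FiniteType.out : (⊤ : Subalgebra B₀ C).FG)
  choose r hr using fun c : C => h (1 ⊗ₜ c)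
  obtain ⟨i, hi⟩ := (H.sysR B₀).lift_finset (s.image r)
  have hi' : ∀ c ∈ s, ∃ x : B₀ ⊗[A₀] G i, Rm B₀ (g i) x = r c :=
    fun c hc => hi _ (Finset.mem_image_of_mem _ hc)
  choose! r' hr' using hi'
  let z : C → (B₀ ⊗[A₀] G i) ⊗[B₀] C := fun c =>
    algebraMap (B₀ ⊗[A₀] G i) ((B₀ ⊗[A₀] G i) ⊗[B₀] C) (r' c) - 1 ⊗ₜ c
  obtain ⟨k, φ, hφ, hk⟩ := H.C_kill_finset C (s.image z) (by
    intro x hx
    obtain ⟨c, hc, rfl⟩ := Finset.mem_image.mp hx
    simp only [z]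
    rw [map_sub, Sm_algebraMap, hr' c hc, hr c, sub_eq_zero]
    simp)
  refine ⟨k, fun k' φ' hφ' => ?_⟩
  apply surjective_algebraMap_of_gens _ C (s : Set C) hs
  intro c hc
  refine ⟨Rm B₀ (φ'.comp φ) (r' c), ?_⟩
  have h1 := hk _ (Finset.mem_image_of_mem z hc)
  have h2 : Sm C (φ'.comp φ) (z c) = 0 := by
    rw [← Sm_comp_apply, h1, map_zero]
  simp only [z] at h2
  rw [map_sub, Sm_algebraMap, sub_eq_zero] at h2
  rw [h2]
  simp

/-- Finiteness descends to a finite level. -/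
theorem IsWeakColim.eventually_finite (H : IsWeakColim f g) [Algebra.FiniteType B₀ C]
    (h : Module.Finite (B₀ ⊗[A₀] A) ((B₀ ⊗[A₀] A) ⊗[B₀] C)) :
    Eventually g fun k => Module.Finite (B₀ ⊗[A₀] G k) ((B₀ ⊗[A₀] G k) ⊗[B₀] C) := by
  classical
  obtain ⟨s, hs⟩ := (Algebra.FiniteType.out : (⊤ : Subalgebra B₀ C).FG)
  have hint : ∀ c : C, IsIntegral (B₀ ⊗[A₀] A) ((1 : B₀ ⊗[A₀] A) ⊗ₜ[B₀] c) :=
    fun c => Algebra.IsIntegral.isIntegral _
  choose p hpm hpe using hint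
  obtain ⟨i, hi⟩ := (H.sysR B₀).lift_finset (s.biUnion fun c => (p c).coeffs)
  have hlift : ∀ c ∈ s, p c ∈ Polynomial.lifts (Rm B₀ (g i)).toRingHom := by
    intro c hc
    rw [Polynomial.lifts_iff_coeffs_subset_range]
    intro a ha
    obtain ⟨x, hx⟩ := hi a (Finset.mem_biUnion.mpr ⟨c, hc, ha⟩)
    exact ⟨x, hx⟩
  have hq : ∀ c ∈ s, ∃ q : Polynomial (B₀ ⊗[A₀] G i),
      q.map (Rm B₀ (g i)).toRingHom = p c ∧ q.Monic := by
    intro c hc
    obtain ⟨q, hq1, _, hq2⟩ := Polynomial.lifts_and_natDegree_eq_and_monic (hlift c hc) (hpm c)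
    exact ⟨q, hq1, hq2⟩
  choose! q hq1 hq2 using hq
  let z : C → (B₀ ⊗[A₀] G i) ⊗[B₀] C := fun c =>
    Polynomial.eval₂ (algebraMap (B₀ ⊗[A₀] G i) ((B₀ ⊗[A₀] G i) ⊗[B₀] C)) (1 ⊗ₜ c) (q c)
  have hzmap : ∀ {Y : Type u} [CommRing Y] [Algebra A₀ Y] (φ : G i →ₐ[A₀] Y) (c : C),
      Sm C φ (z c) =
      Polynomial.eval₂ (algebraMap (B₀ ⊗[A₀] Y) ((B₀ ⊗[A₀] Y) ⊗[B₀] C)) (1 ⊗ₜ c)
        ((q c).map (Rm B₀ φ).toRingHom) := by
    intro Y _ _ φ c
    simp only [z]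
    rw [← AlgHom.coe_toRingHom, Polynomial.hom_eval₂, Polynomial.eval₂_map]
    have hF : ((Sm C φ : _ →ₐ[B₀] _) : _ →+* _).comp
        (algebraMap (B₀ ⊗[A₀] G i) ((B₀ ⊗[A₀] G i) ⊗[B₀] C)) =
        (algebraMap (B₀ ⊗[A₀] Y) ((B₀ ⊗[A₀] Y) ⊗[B₀] C)).comp (Rm B₀ φ).toRingHom :=
      RingHom.ext fun r => by simp [Algebra.TensorProduct.algebraMap_apply]
    rw [hF]
    congr 1
    simp
  obtain ⟨k, φ, hφ, hk⟩ := H.C_kill_finset C (s.image z) (by
    intro x hx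
    obtain ⟨c, hc, rfl⟩ := Finset.mem_image.mp hx
    rw [hzmap, hq1 c hc]
    exact hpe c)
  refine ⟨k, fun k' φ' hφ' => ?_⟩
  apply finite_of_gens_isIntegral _ C s hs
  intro c hc
  refine ⟨(q c).map (Rm B₀ (φ'.comp φ)).toRingHom, (hq2 c hc).map _, ?_⟩
  rw [← hzmap, ← Sm_comp_apply, hk _ (Finset.mem_image_of_mem z hc), map_zero]

/-- Vanishing of `R ⊗ M` descends to a finite level, for `M` finite over a `B₀`-algebra `C`. -/
theorem IsWeakColim.eventually_subsingleton (H : IsWeakColim f g)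
    (M : Type u) [AddCommGroup M] [Module B₀ M] [Module C M] [IsScalarTower B₀ C M]
    [Module.Finite C M] (h : Subsingleton ((B₀ ⊗[A₀] A) ⊗[B₀] M)) :
    Eventually g fun k => Subsingleton ((B₀ ⊗[A₀] G k) ⊗[B₀] M) := by
  classical
  obtain ⟨s, hs⟩ := (Module.Finite.fg_top : (⊤ : Submodule C M).FG)
  let i : ι := Classical.arbitrary ι
  obtain ⟨k, φ, hφ, hk⟩ := H.M_kill_finset M
    (s.image fun ω => (1 : B₀ ⊗[A₀] G i) ⊗ₜ[B₀] ω) (fun x _ => Subsingleton.elim _ _)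
  refine ⟨k, fun k' φ' hφ' => ?_⟩
  apply subsingleton_tensor_of_gens _ C M (s : Set M) hs
  intro ω hω
  have h1 := hk _ (Finset.mem_image_of_mem _ hω)
  rw [LinearMap.rTensor_tmul, AlgHom.toLinearMap_apply, map_one] at h1
  have h2 := congrArg ((Rm B₀ φ').toLinearMap.rTensor M) h1
  rw [LinearMap.rTensor_tmul, map_zero, AlgHom.toLinearMap_apply, map_one] at h2
  exact h2

attribute [local instance] Algebra.TensorProduct.rightAlgebra in
/-- Formal unramifiedness descends to a finite level. -/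
theorem IsWeakColim.eventually_formallyUnramified (H : IsWeakColim f g) [Algebra.FiniteType B₀ C]
    (h : Algebra.FormallyUnramified (B₀ ⊗[A₀] A) ((B₀ ⊗[A₀] A) ⊗[B₀] C)) :
    Eventually g fun k =>
      Algebra.FormallyUnramified (B₀ ⊗[A₀] G k) ((B₀ ⊗[A₀] G k) ⊗[B₀] C) := by
  have h1 : Subsingleton ((B₀ ⊗[A₀] A) ⊗[B₀] Ω[C⁄B₀]) :=
    (KaehlerDifferential.tensorKaehlerEquivBase B₀ (B₀ ⊗[A₀] A) C
      ((B₀ ⊗[A₀] A) ⊗[B₀] C)).toEquiv.subsingleton
  refine (H.eventually_subsingleton C Ω[C⁄B₀] h1).mono fun k hk => ?_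
  exact ⟨(KaehlerDifferential.tensorKaehlerEquivBase B₀ (B₀ ⊗[A₀] G k) C
      ((B₀ ⊗[A₀] G k) ⊗[B₀] C)).symm.toEquiv.subsingleton⟩

/-- If `C` is finitely presented and admits a `B₀`-algebra map to the colimit, then
`R_k → R_k ⊗ C` is eventually (split) injective. -/
theorem IsWeakColim.eventually_injective (H : IsWeakColim f g) [Algebra.FinitePresentation B₀ C]
    (τ : C →ₐ[B₀] B₀ ⊗[A₀] A) :
    Eventually g fun k => Function.Injective
      (algebraMap (B₀ ⊗[A₀] G k) ((B₀ ⊗[A₀] G k) ⊗[B₀] C)) := by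
  let τ' : C →ₐ[B₀] (B₀ ⊗[A₀] A) ⊗[B₀] B₀ :=
    (Algebra.TensorProduct.rid B₀ B₀ (B₀ ⊗[A₀] A)).symm.toAlgHom.comp τ
  obtain ⟨k, τk, -⟩ := H.lift_of_finitePresentation B₀ C τ'
  refine ⟨k, fun k' φ _ => ?_⟩
  let τk' : C →ₐ[B₀] B₀ ⊗[A₀] G k' :=
    (Rm B₀ φ).comp ((Algebra.TensorProduct.rid B₀ B₀ (B₀ ⊗[A₀] G k)).toAlgHom.comp τk)
  let ε : (B₀ ⊗[A₀] G k') ⊗[B₀] C →ₐ[B₀ ⊗[A₀] G k'] B₀ ⊗[A₀] G k' :=
    Algebra.TensorProduct.lift (AlgHom.id _ _) τk' (fun _ _ => Commute.all _ _)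
  have hε : Function.LeftInverse ε (algebraMap (B₀ ⊗[A₀] G k') ((B₀ ⊗[A₀] G k') ⊗[B₀] C)) :=
    fun r => ε.commutes r
  exact hε.injective

/-- Bijectivity descends to a finite level. -/
theorem IsWeakColim.eventually_bijective (H : IsWeakColim f g) [Algebra.FinitePresentation B₀ C]
    (h : Function.Bijective (algebraMap (B₀ ⊗[A₀] A) ((B₀ ⊗[A₀] A) ⊗[B₀] C))) :
    Eventually g fun k => Function.Bijective
      (algebraMap (B₀ ⊗[A₀] G k) ((B₀ ⊗[A₀] G k) ⊗[B₀] C)) := by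
  let e : (B₀ ⊗[A₀] A) ≃ₐ[B₀ ⊗[A₀] A] (B₀ ⊗[A₀] A) ⊗[B₀] C :=
    AlgEquiv.ofBijective (Algebra.ofId _ _) h
  let τ : C →ₐ[B₀] B₀ ⊗[A₀] A :=
    (e.symm.toAlgHom.restrictScalars B₀).comp Algebra.TensorProduct.includeRight
  exact H.eventually_and (H.eventually_injective C τ) (H.eventually_surjective C h.2)

end Eventually

end Groth.Agent.Helper26
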