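import Mathlib

/-!
# Finite algebras over complete Noetherian local rings (helper26)

* `H26.isAdicComplete_of_finite`: a finite module over a Noetherian `I`-adically complete ring
  is `I`-adically complete.
* `H26.isAdicComplete_of_le_of_pow_le`: change of ideal of definition.
* `H26.exists_jacobson_pow_le`: for a finite algebra `T` over a local ring `R`, a power of the
  Jacobson radical of `T` lies in `𝔪_R T`.
* `H26.isAdicComplete_jacobson_of_finite`: a finite algebra over a complete Noetherian local ring
  is complete with respect to its Jacobson radical.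
-/

namespace H26

open IsLocalRing

theorem isAdicComplete_of_finite {R : Type*} [CommRing R] [IsNoetherianRing R] (I : Ideal R)
    [IsAdicComplete I R] (M : Type*) [AddCommGroup M] [Module R M] [Module.Finite R M] :
    IsAdicComplete I M := by
  have hH : IsHausdorff I M := IsHausdorff.of_le_jacobson I M (IsAdicComplete.le_jacobson_bot I)
  have hP : IsPrecomplete I M := by
    rw [← AdicCompletion.of_surjective_iff]
    intro y
    obtain ⟨z, rfl⟩ := AdicCompletion.ofTensorProduct_surjective_of_finite I M y
    induction z using TensorProduct.induction_on with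
    | zero => exact ⟨0, by simp⟩
    | tmul r x =>
      obtain ⟨r', rfl⟩ := AdicCompletion.of_surjective I R r
      refine ⟨r' • x, ?_⟩
      rw [AdicCompletion.ofTensorProduct_tmul, map_smul,
        ← algebraMap_smul (AdicCompletion I R) r' (AdicCompletion.of I M x)]
      rfl
    | add a b ha hb =>
      obtain ⟨a', ha'⟩ := ha
      obtain ⟨b', hb'⟩ := hb
      exact ⟨a' + b', by rw [map_add, map_add, ha', hb']⟩
  exact { toIsHausdorff := hH, toIsPrecomplete := hP }

theorem isAdicComplete_of_le_of_pow_le {A : Type*} [CommRing A] {I K : Ideal A} (M : Type*)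
    [AddCommGroup M] [Module A M] (hIK : I ≤ K) (N : ℕ) (hN : K ^ N ≤ I)
    [IsAdicComplete I M] : IsAdicComplete K M := by
  have hN' : K ^ (N + 1) ≤ I := (Ideal.pow_le_pow_right (Nat.le_succ N)).trans hN
  have hpow : ∀ n : ℕ, K ^ ((N + 1) * n) ≤ I ^ n := fun n => by
    rw [pow_mul]; exact Ideal.pow_right_mono hN' n
  have hH : IsHausdorff K M := by
    refine ⟨fun x hx => ?_⟩
    refine IsHausdorff.haus (I := I) inferInstance x fun n => ?_
    exact (hx ((N + 1) * n)).mono (Submodule.smul_mono_left (hpow n))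
  have hP : IsPrecomplete K M := by
    refine ⟨fun f hf => ?_⟩
    obtain ⟨L, hL⟩ := IsPrecomplete.prec (I := I) (M := M) inferInstance
      (f := fun n => f ((N + 1) * n)) (fun {m n} hmn =>
        (hf (Nat.mul_le_mul_left (N + 1) hmn)).mono (Submodule.smul_mono_left (hpow m)))
    refine ⟨L, fun n => ?_⟩
    have h1 : f n ≡ f ((N + 1) * n) [SMOD (K ^ n • ⊤ : Submodule A M)] :=
      hf (Nat.le_mul_of_pos_left n (Nat.succ_pos N))
    have h2 : f ((N + 1) * n) ≡ L [SMOD (K ^ n • ⊤ : Submodule A M)] :=
      (hL n).mono (Submodule.smul_mono_left (Ideal.pow_right_mono hIK n))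
    exact h1.trans h2
  exact { toIsHausdorff := hH, toIsPrecomplete := hP }

theorem exists_jacobson_pow_le (R : Type*) [CommRing R] [IsLocalRing R] (T : Type*) [CommRing T]
    [Algebra R T] [Module.Finite R T] :
    ∃ N : ℕ, (Ideal.jacobson (⊥ : Ideal T)) ^ N ≤ (maximalIdeal R).map (algebraMap R T) := by
  set J : Ideal T := (maximalIdeal R).map (algebraMap R T) with hJ
  let _ : Field (R ⧸ maximalIdeal R) := Ideal.Quotient.field _
  have hfin : Module.Finite R (T ⧸ J) :=
    Module.Finite.of_surjective (Ideal.Quotient.mkₐ R J).toLinearMap Ideal.Quotient.mk_surjective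
  have hfin' : Module.Finite (R ⧸ maximalIdeal R) (T ⧸ J) :=
    Module.Finite.of_restrictScalars_finite R _ _
  have hart : IsArtinianRing (T ⧸ J) := IsArtinianRing.of_finite (R ⧸ maximalIdeal R) (T ⧸ J)
  obtain ⟨N, hN⟩ := IsArtinianRing.isNilpotent_jacobson_bot (R := T ⧸ J)
  have h1 : (Ideal.jacobson (⊥ : Ideal T)).map (Ideal.Quotient.mk J) ≤
      Ideal.jacobson (⊥ : Ideal (T ⧸ J)) := by
    rw [Ideal.map_le_iff_le_comap]
    intro x hx
    rw [Ideal.mem_comap, Ideal.jacobson, Ideal.mem_sInf]
    rintro n ⟨-, hn⟩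
    have hmax : (n.comap (Ideal.Quotient.mk J)).IsMaximal :=
      Ideal.comap_isMaximal_of_surjective _ Ideal.Quotient.mk_surjective
    exact (Ideal.mem_sInf.mp hx) ⟨bot_le, hmax⟩
  refine ⟨N, fun x hx => ?_⟩
  have h2 : Ideal.Quotient.mk J x ∈ (Ideal.jacobson (⊥ : Ideal (T ⧸ J))) ^ N := by
    have := Ideal.mem_map_of_mem (Ideal.Quotient.mk J) hx
    rw [Ideal.map_pow] at this
    exact Ideal.pow_right_mono h1 N this
  rw [hN] at h2
  exact Ideal.Quotient.eq_zero_iff_mem.mp (by simpa using h2)

theorem isAdicComplete_jacobson_of_finite (R : Type*) [CommRing R] [IsLocalRing R]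
    [IsNoetherianRing R] [IsAdicComplete (maximalIdeal R) R] (T : Type*) [CommRing T]
    [Algebra R T] [Module.Finite R T] :
    IsAdicComplete (Ideal.jacobson (⊥ : Ideal T)) T := by
  have h1 : IsAdicComplete (maximalIdeal R) T := isAdicComplete_of_finite _ T
  have h2 : IsAdicComplete ((maximalIdeal R).map (algebraMap R T)) T :=
    (IsAdicComplete.map_algebraMap_iff (I := maximalIdeal R) (M := T) (S := T)).mpr h1
  obtain ⟨N, hN⟩ := exists_jacobson_pow_le R T
  exact isAdicComplete_of_le_of_pow_le T (IsAdicComplete.le_jacobson_bot _) N hN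

end H26
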