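import Mathlib

/-!
# Spreading out maps between local rings of finitely presented algebras

Tools for the system of principal localizations `S_t` (`t ∉ q`) with colimit `S_q`:
* `toAt` : the canonical map `S_t → S_q`;
* `awayLift`, `trans` : extension of maps to principal localizations, transition maps;
* `exists_lift` : a map from a finitely presented algebra to `S_q` lifts to some `S_t`;
* `exists_trans_comp_eq` : two maps from a finite type algebra to `S_t` which agree in `S_q`
  agree in some `S_{t h}`.
-/

set_option autoImplicit false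
set_option linter.style.haveILetI false

universe u

namespace Groth.Agent.Helper26.LocSpread

variable (R : Type u) {S : Type u} [CommRing R] [CommRing S] [Algebra R S]

/-- Extension of an algebra map to a principal localization. -/
noncomputable def awayLift {P : Type u} [CommRing P] [Algebra R P] (t : S) (α : S →ₐ[R] P)
    (h : IsUnit (α t)) : Localization.Away t →ₐ[R] P :=
  IsLocalization.Away.liftAlgHom (S := Localization.Away t) t (f := α) h

@[simp]
theorem awayLift_algebraMap {P : Type u} [CommRing P] [Algebra R P] (t : S) (α : S →ₐ[R] P)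
    (h : IsUnit (α t)) (s : S) :
    awayLift R t α h (algebraMap S (Localization.Away t) s) = α s := by
  unfold awayLift
  rw [IsLocalization.Away.liftAlgHom_apply, IsLocalization.Away.lift_eq]
  rfl

theorem algHom_ext_away {P : Type u} [CommRing P] [Algebra R P] (t : S)
    {α β : Localization.Away t →ₐ[R] P}
    (h : ∀ s : S, α (algebraMap S _ s) = β (algebraMap S _ s)) : α = β := by
  apply AlgHom.coe_ringHom_injective
  apply IsLocalization.ringHom_ext (Submonoid.powers t)
  ext s
  exact h s

/-- The transition map `S_t → S_{t h}`. -/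
noncomputable def trans (t h : S) : Localization.Away t →ₐ[R] Localization.Away (t * h) :=
  awayLift R t (IsScalarTower.toAlgHom R S (Localization.Away (t * h)))
    (IsLocalization.Away.isUnit_of_dvd (S := Localization.Away (t * h)) (t * h) (Dvd.intro h rfl))

@[simp]
theorem trans_algebraMap (t h s : S) :
    trans R t h (algebraMap S (Localization.Away t) s) =
      algebraMap S (Localization.Away (t * h)) s := by
  rw [trans, awayLift_algebraMap]; rfl

theorem isUnit_algebraMap_left (t h : S) :
    IsUnit (algebraMap S (Localization.Away (t * h)) t) :=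
  IsLocalization.Away.isUnit_of_dvd (S := Localization.Away (t * h)) (t * h) (Dvd.intro h rfl)

theorem isUnit_algebraMap_right (t h : S) :
    IsUnit (algebraMap S (Localization.Away (t * h)) h) :=
  IsLocalization.Away.isUnit_of_dvd (S := Localization.Away (t * h)) (t * h) (Dvd.intro_left t rfl)

variable (q : Ideal S) [q.IsPrime]

/-- The canonical map from a principal localization to the local ring. -/
noncomputable def toAt (t : S) (ht : t ∉ q) : Localization.Away t →ₐ[R] Localization.AtPrime q :=
  awayLift R t (IsScalarTower.toAlgHom R S (Localization.AtPrime q))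
    (IsLocalization.map_units (Localization.AtPrime q) (⟨t, ht⟩ : q.primeCompl))

@[simp]
theorem toAt_algebraMap (t : S) (ht : t ∉ q) (s : S) :
    toAt R q t ht (algebraMap S (Localization.Away t) s) =
      algebraMap S (Localization.AtPrime q) s := by
  rw [toAt, awayLift_algebraMap]; rfl

theorem toAt_trans (t h : S) (ht : t ∉ q) (hth : t * h ∉ q) :
    (toAt R q (t * h) hth).comp (trans R t h) = toAt R q t ht :=
  algHom_ext_away R t fun s => by
    rw [AlgHom.comp_apply, trans_algebraMap, toAt_algebraMap, toAt_algebraMap]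

theorem toAt_trans_apply (t h : S) (ht : t ∉ q) (hth : t * h ∉ q) (x : Localization.Away t) :
    toAt R q (t * h) hth (trans R t h x) = toAt R q t ht x :=
  DFunLike.congr_fun (toAt_trans R q t h ht hth) x

theorem isUnit_algebraMap_atPrime {s : S} (hs : s ∉ q) :
    IsUnit (algebraMap S (Localization.AtPrime q) s) :=
  IsLocalization.map_units (Localization.AtPrime q) (⟨s, hs⟩ : q.primeCompl)

/-- An element of `S_t` dying in `S_q` is killed by some `h ∉ q`. -/
theorem exists_mul_eq_zero (t : S) (ht : t ∉ q) (y : Localization.Away t)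
    (hy : toAt R q t ht y = 0) :
    ∃ h : S, h ∉ q ∧ algebraMap S (Localization.Away t) h * y = 0 := by
  obtain ⟨n, a, hna⟩ := IsLocalization.Away.surj t y
  have h1 : algebraMap S (Localization.AtPrime q) a = 0 := by
    have := congrArg (toAt R q t ht) hna
    rw [map_mul, hy, zero_mul, toAt_algebraMap] at this
    exact this.symm
  obtain ⟨⟨h, hh⟩, hha⟩ := (IsLocalization.map_eq_zero_iff q.primeCompl _ _).mp h1
  refine ⟨h, hh, ?_⟩
  have hu : IsUnit (algebraMap S (Localization.Away t) t ^ n) :=
    IsLocalization.Away.algebraMap_pow_isUnit t n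
  apply hu.mul_left_injective
  show algebraMap S (Localization.Away t) h * y * algebraMap S (Localization.Away t) t ^ n =
    0 * algebraMap S (Localization.Away t) t ^ n
  rw [zero_mul, mul_assoc, hna, ← map_mul]
  show algebraMap S (Localization.Away t) (h * a) = 0
  rw [hha, map_zero]

/-- A numerator for an element of `S_t` which becomes a unit in `S_q`. -/
theorem exists_num (t : S) (ht : t ∉ q) (y : Localization.Away t)
    (hy : IsUnit (toAt R q t ht y)) :
    ∃ (z : S) (n : ℕ), z ∉ q ∧
      y * algebraMap S (Localization.Away t) t ^ n = algebraMap S (Localization.Away t) z := by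
  obtain ⟨n, a, hna⟩ := IsLocalization.Away.surj t y
  refine ⟨a, n, ?_, hna⟩
  intro haq
  have h1 := congrArg (toAt R q t ht) hna
  rw [map_mul, map_pow, toAt_algebraMap, toAt_algebraMap] at h1
  have hu : IsUnit (algebraMap S (Localization.AtPrime q) a) := by
    rw [← h1]; exact hy.mul ((isUnit_algebraMap_atPrime q ht).pow n)
  exact (IsLocalization.AtPrime.isUnit_to_map_iff (Localization.AtPrime q) q a).mp hu haq

/-- If `y * t^n = z` in `S_t` then `y` becomes a unit in `S_{t z}`. -/
theorem isUnit_trans_of_num (t z : S) (n : ℕ) (y : Localization.Away t)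
    (h : y * algebraMap S (Localization.Away t) t ^ n = algebraMap S (Localization.Away t) z) :
    IsUnit (trans R t z y) := by
  have h1 := congrArg (trans R t z) h
  rw [map_mul, map_pow, trans_algebraMap, trans_algebraMap] at h1
  have hu : IsUnit (trans R t z y * algebraMap S (Localization.Away (t * z)) t ^ n) := by
    rw [h1]; exact isUnit_algebraMap_right t z
  exact isUnit_of_mul_isUnit_left hu

theorem prod_notMem {ι : Type*} (s : Finset ι) (f : ι → S) (h : ∀ i ∈ s, f i ∉ q) :
    ∏ i ∈ s, f i ∉ q := by
  intro hmem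
  obtain ⟨i, hi, hfi⟩ := (Ideal.IsPrime.prod_mem_iff).mp hmem
  exact h i hi hfi

/-- A map from a finitely presented algebra to `S_q` lifts to some `S_t`. -/
theorem exists_lift (S₁ : Type u) [CommRing S₁] [Algebra R S₁] [Algebra.FinitePresentation R S₁]
    (φ : S₁ →ₐ[R] Localization.AtPrime q) :
    ∃ (t : S) (ht : t ∉ q) (φ' : S₁ →ₐ[R] Localization.Away t),
      (toAt R q t ht).comp φ' = φ := by
  classical
  obtain ⟨n, π, hπ, hfg⟩ := Algebra.FinitePresentation.out (R := R) (A := S₁)
  obtain ⟨s, hs⟩ := hfg
  obtain ⟨⟨b, hb⟩, hbint⟩ := IsLocalization.exist_integer_multiples_of_finite q.primeCompl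
    (fun i : Fin n => φ (π (MvPolynomial.X i)))
  have hbint' : ∀ i : Fin n, ∃ r : S, algebraMap S (Localization.AtPrime q) r =
      b • φ (π (MvPolynomial.X i)) := fun i => hbint i
  choose a ha using hbint'
  let y : Fin n → Localization.Away b :=
    fun i => algebraMap S _ (a i) * IsLocalization.Away.invSelf b
  have hyb : ∀ i, y i * algebraMap S (Localization.Away b) b = algebraMap S _ (a i) := by
    intro i
    simp only [y]
    rw [mul_assoc, mul_comm (IsLocalization.Away.invSelf b), IsLocalization.Away.mul_invSelf,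
      mul_one]
  have hy : ∀ i, toAt R q b hb (y i) = φ (π (MvPolynomial.X i)) := by
    intro i
    apply (isUnit_algebraMap_atPrime q hb).mul_left_injective
    show toAt R q b hb (y i) * algebraMap S _ b = φ (π (MvPolynomial.X i)) * algebraMap S _ b
    rw [← toAt_algebraMap R q b hb b, ← map_mul, hyb, toAt_algebraMap, toAt_algebraMap, ha i,
      Algebra.smul_def, mul_comm]
  let A0 : MvPolynomial (Fin n) R →ₐ[R] Localization.Away b := MvPolynomial.aeval y
  have hA0 : ∀ p, toAt R q b hb (A0 p) = φ (π p) := by
    have : (toAt R q b hb).comp A0 = φ.comp π := by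
      apply MvPolynomial.algHom_ext
      intro i
      simp only [AlgHom.comp_apply, A0, MvPolynomial.aeval_X, hy]
    exact fun p => DFunLike.congr_fun this p
  have hkill : ∀ p : s, ∃ h : S, h ∉ q ∧ algebraMap S (Localization.Away b) h * A0 p = 0 := by
    intro p
    apply exists_mul_eq_zero R q b hb
    rw [hA0]
    have h2 : (p : MvPolynomial (Fin n) R) ∈ RingHom.ker π.toRingHom := by
      rw [← hs]; exact Ideal.subset_span p.2
    have h3 : π (p : MvPolynomial (Fin n) R) = 0 := h2
    rw [h3, map_zero]
  choose hf hfq hfz using hkill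
  set h : S := ∏ p : s, hf p with hh
  have hhq : h ∉ q := prod_notMem q _ _ fun p _ => hfq p
  have hbh : b * h ∉ q := fun hmem =>
    (Ideal.IsPrime.mem_or_mem inferInstance hmem).elim hb hhq
  have hz : ∀ p : s, trans R b h (A0 p) = 0 := by
    intro p
    obtain ⟨c, hc⟩ : hf p ∣ h := Finset.dvd_prod_of_mem _ (Finset.mem_univ p)
    have h1 : algebraMap S (Localization.Away b) h * A0 p = 0 := by
      rw [hc, mul_comm (hf p) c, map_mul, mul_assoc, hfz, mul_zero]
    have h2 := congrArg (trans R b h) h1
    rw [map_mul, map_zero, trans_algebraMap] at h2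
    exact (isUnit_algebraMap_right b h).mul_right_eq_zero.mp h2
  have hle : RingHom.ker π.toRingHom ≤ RingHom.ker ((trans R b h).comp A0).toRingHom := by
    rw [← hs, Ideal.span_le]
    intro p hp
    exact hz ⟨p, hp⟩
  refine ⟨b * h, hbh, AlgHom.liftOfSurjective π hπ ((trans R b h).comp A0) hle, ?_⟩
  apply AlgHom.ext
  intro c
  obtain ⟨p, rfl⟩ := hπ c
  rw [AlgHom.comp_apply, AlgHom.liftOfSurjective_apply, AlgHom.comp_apply,
    toAt_trans_apply R q b h hb hbh, hA0]

/-- Two maps from a finite type algebra to `S_t` which agree in `S_q` agree in some `S_{t h}`. -/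
theorem exists_trans_comp_eq (S₁ : Type u) [CommRing S₁] [Algebra R S₁] [Algebra.FiniteType R S₁]
    (t : S) (ht : t ∉ q) (α β : S₁ →ₐ[R] Localization.Away t)
    (hαβ : (toAt R q t ht).comp α = (toAt R q t ht).comp β) :
    ∃ h : S, h ∉ q ∧ (trans R t h).comp α = (trans R t h).comp β := by
  classical
  obtain ⟨s, hs⟩ := (Algebra.FiniteType.out : (⊤ : Subalgebra R S₁).FG)
  have hkill : ∀ c : s, ∃ h : S, h ∉ q ∧
      algebraMap S (Localization.Away t) h * (α c - β c) = 0 := fun c =>
    exists_mul_eq_zero R q t ht _ (by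
      rw [map_sub, sub_eq_zero]; exact DFunLike.congr_fun hαβ (c : S₁))
  choose hf hfq hfz using hkill
  refine ⟨∏ c : s, hf c, prod_notMem q _ _ fun c _ => hfq c,
    AlgHom.ext_of_adjoin_eq_top hs ?_⟩
  intro c hc
  obtain ⟨d, hd⟩ : hf ⟨c, hc⟩ ∣ ∏ c : s, hf c := Finset.dvd_prod_of_mem _ (Finset.mem_univ _)
  have h1 : algebraMap S (Localization.Away t) (∏ c : s, hf c) * (α c - β c) = 0 := by
    rw [hd, mul_comm (hf ⟨c, hc⟩) d, map_mul, mul_assoc]
    rw [show (α c - β c) = (α ((⟨c, hc⟩ : s) : S₁) - β ((⟨c, hc⟩ : s) : S₁)) from rfl, hfz,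
      mul_zero]
  have h2 := congrArg (trans R t (∏ c : s, hf c)) h1
  rw [map_mul, map_zero, trans_algebraMap,
    (isUnit_algebraMap_right t _).mul_right_eq_zero, map_sub, sub_eq_zero] at h2
  exact h2

/-- Uniform version: some `h ∉ q` kills all differences `α x - β x`. -/
theorem exists_mul_sub_eq_zero (S₁ : Type u) [CommRing S₁] [Algebra R S₁]
    [Algebra.FiniteType R S₁]
    (t : S) (ht : t ∉ q) (α β : S₁ →ₐ[R] Localization.Away t)
    (hαβ : (toAt R q t ht).comp α = (toAt R q t ht).comp β) :
    ∃ h : S, h ∉ q ∧ ∀ x : S₁, algebraMap S (Localization.Away t) h * (α x - β x) = 0 := by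
  classical
  obtain ⟨s, hs⟩ := (Algebra.FiniteType.out : (⊤ : Subalgebra R S₁).FG)
  have hkill : ∀ c : s, ∃ h : S, h ∉ q ∧
      algebraMap S (Localization.Away t) h * (α c - β c) = 0 := fun c =>
    exists_mul_eq_zero R q t ht _ (by
      rw [map_sub, sub_eq_zero]; exact DFunLike.congr_fun hαβ (c : S₁))
  choose hf hfq hfz using hkill
  refine ⟨∏ c : s, hf c, prod_notMem q _ _ fun c _ => hfq c, fun x => ?_⟩
  have hx : x ∈ Algebra.adjoin R (s : Set S₁) := by rw [hs]; trivial
  induction hx using Algebra.adjoin_induction with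
  | mem c hc =>
    obtain ⟨d, hd⟩ : hf ⟨c, hc⟩ ∣ ∏ c : s, hf c := Finset.dvd_prod_of_mem _ (Finset.mem_univ _)
    rw [hd, mul_comm (hf ⟨c, hc⟩) d, map_mul, mul_assoc]
    rw [show (α c - β c) = (α ((⟨c, hc⟩ : s) : S₁) - β ((⟨c, hc⟩ : s) : S₁)) from rfl, hfz,
      mul_zero]
  | algebraMap r => rw [AlgHom.commutes, AlgHom.commutes, sub_self, mul_zero]
  | add x y _ _ hx hy => rw [map_add, map_add, add_sub_add_comm, mul_add, hx, hy, add_zero]
  | mul x y _ _ hx hy =>
    have : α (x * y) - β (x * y) = (α x - β x) * α y + β x * (α y - β y) := by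
      rw [map_mul, map_mul]; ring
    rw [this, mul_add, ← mul_assoc, hx, zero_mul, mul_left_comm, hy, mul_zero, add_zero]

end Groth.Agent.Helper26.LocSpread
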