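import Mathlib
import Groth.Agent.Lib.Helper26.ColimDescentProps

/-!
# Descending formal smoothness to a finite level of a (weak) colimit
-/

set_option autoImplicit false

open TensorProduct

namespace Groth.Agent.Helper26

universe u

section SmoothGeneral

variable {B₀ : Type u} [CommRing B₀] (R' : Type u) [CommRing R'] [Algebra B₀ R']
  {C : Type u} [CommRing C] [Algebra B₀ C]
  {P₀ : Type u} [CommRing P₀] [Algebra B₀ P₀] (f₀ : P₀ →ₐ[B₀] C)

/-- The projection `R' ⊗ (P₀/I²) → R' ⊗ C`, where `I = ker f₀`. -/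
noncomputable abbrev thickProj :
    R' ⊗[B₀] (P₀ ⧸ RingHom.ker f₀.toRingHom ^ 2) →ₐ[R'] R' ⊗[B₀] C :=
  Algebra.TensorProduct.map (AlgHom.id R' R') f₀.kerSquareLift

variable {f₀}

theorem kerSquareLift_surjective (hf₀ : Function.Surjective f₀) :
    Function.Surjective f₀.kerSquareLift := by
  intro c
  obtain ⟨p, rfl⟩ := hf₀ c
  exact ⟨Ideal.Quotient.mk _ p, rfl⟩

theorem thickProj_surjective (hf₀ : Function.Surjective f₀) :
    Function.Surjective (thickProj R' f₀) :=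
  Algebra.TensorProduct.map_surjective _ _ Function.surjective_id (kerSquareLift_surjective hf₀)

theorem ker_thickProj_sq (hf₀ : Function.Surjective f₀) :
    RingHom.ker (thickProj R' f₀).toRingHom ^ 2 = ⊥ := by
  have h1 : RingHom.ker (thickProj R' f₀).toRingHom =
      RingHom.ker (Algebra.TensorProduct.map (AlgHom.id B₀ R') f₀.kerSquareLift) := by
    ext x
    rfl
  rw [h1, Algebra.TensorProduct.lTensor_ker _ (kerSquareLift_surjective hf₀), ← Ideal.map_pow]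
  have h2 : RingHom.ker f₀.kerSquareLift ^ 2 = ⊥ := by
    have := AlgHom.ker_kerSquareLift f₀
    rw [show RingHom.ker f₀.kerSquareLift = RingHom.ker f₀.kerSquareLift.toRingHom from rfl,
      this, Ideal.cotangentIdeal_square]
  rw [h2, Ideal.map_bot]

/-- A `B₀`-algebra map `C → R' ⊗ (P₀/I²)` lifting `c ↦ 1 ⊗ c` makes `R' ⊗ C` formally smooth
over `R'`, provided `P₀` is formally smooth over `B₀`. -/
theorem formallySmooth_of_section [Algebra.FormallySmooth B₀ P₀]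
    (τ' : C →ₐ[B₀] R' ⊗[B₀] (P₀ ⧸ RingHom.ker f₀.toRingHom ^ 2))
    (hτ' : ∀ c, thickProj R' f₀ (τ' c) = 1 ⊗ₜ c) :
    Algebra.FormallySmooth R' (R' ⊗[B₀] C) := by
  let F : R' ⊗[B₀] P₀ →ₐ[R'] R' ⊗[B₀] C := Algebra.TensorProduct.map (AlgHom.id R' R') f₀
  let mk' : R' ⊗[B₀] P₀ →ₐ[R'] (R' ⊗[B₀] P₀) ⧸ RingHom.ker F.toRingHom ^ 2 :=
    Ideal.Quotient.mkₐ R' _
  have hI : RingHom.ker f₀.toRingHom ≤
      (RingHom.ker F.toRingHom).comap
        (Algebra.TensorProduct.includeRight : P₀ →ₐ[B₀] R' ⊗[B₀] P₀) := by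
    intro p hp
    rw [Ideal.mem_comap, RingHom.mem_ker]
    rw [RingHom.mem_ker] at hp
    change F (1 ⊗ₜ p) = 0
    simp only [F, Algebra.TensorProduct.map_tmul]
    rw [show f₀ p = 0 from hp, TensorProduct.tmul_zero]
  let θ₀ : (P₀ ⧸ RingHom.ker f₀.toRingHom ^ 2) →ₐ[B₀]
      (R' ⊗[B₀] P₀) ⧸ RingHom.ker F.toRingHom ^ 2 :=
    Ideal.Quotient.liftₐ _ ((mk'.restrictScalars B₀).comp Algebra.TensorProduct.includeRight) (by
      intro p hp
      have h1 := Ideal.le_comap_pow (Algebra.TensorProduct.includeRight : P₀ →ₐ[B₀] R' ⊗[B₀] P₀)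
        (K := RingHom.ker F.toRingHom) 2 (Ideal.pow_right_mono hI 2 hp)
      rw [Ideal.mem_comap] at h1
      exact Ideal.Quotient.eq_zero_iff_mem.mpr h1)
  let θ : R' ⊗[B₀] (P₀ ⧸ RingHom.ker f₀.toRingHom ^ 2) →ₐ[R']
      (R' ⊗[B₀] P₀) ⧸ RingHom.ker F.toRingHom ^ 2 :=
    Algebra.TensorProduct.lift (Algebra.ofId R' _) θ₀ (fun _ _ => Commute.all _ _)
  let σ' : R' ⊗[B₀] C →ₐ[R'] R' ⊗[B₀] (P₀ ⧸ RingHom.ker f₀.toRingHom ^ 2) :=
    Algebra.TensorProduct.lift (Algebra.ofId R' _) τ' (fun _ _ => Commute.all _ _)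
  have hθ : ∀ x, F.kerSquareLift (θ x) = thickProj R' f₀ x := by
    intro x
    induction x using TensorProduct.induction_on with
    | zero => rw [map_zero, map_zero, map_zero]
    | tmul r q =>
      obtain ⟨p, rfl⟩ := Ideal.Quotient.mk_surjective q
      simp only [θ, Algebra.TensorProduct.lift_tmul, map_mul, Algebra.TensorProduct.map_tmul]
      have h1 : F.kerSquareLift (Algebra.ofId R' _ r) = r ⊗ₜ 1 := by
        rw [Algebra.ofId_apply, AlgHom.commutes, Algebra.TensorProduct.algebraMap_apply]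
        rfl
      have h2 : F.kerSquareLift (θ₀ (Ideal.Quotient.mk _ p)) = 1 ⊗ₜ f₀ p := rfl
      rw [h1, h2, Algebra.TensorProduct.tmul_mul_tmul, mul_one, one_mul]
      rfl
    | add x y hx hy => simp only [map_add, hx, hy]
  have hσ' : ∀ x, thickProj R' f₀ (σ' x) = x := by
    intro x
    induction x using TensorProduct.induction_on with
    | zero => rw [map_zero, map_zero]
    | tmul r c =>
      simp only [σ', Algebra.TensorProduct.lift_tmul, map_mul, hτ']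
      rw [Algebra.ofId_apply, AlgHom.commutes, Algebra.TensorProduct.algebraMap_apply,
        Algebra.TensorProduct.tmul_mul_tmul, mul_one, one_mul]
      rfl
    | add x y hx hy => simp only [map_add, hx, hy]
  refine Algebra.FormallySmooth.of_split F (θ.comp σ') ?_
  apply AlgHom.ext
  intro x
  rw [AlgHom.comp_apply, AlgHom.comp_apply, hθ, hσ']
  rfl

end SmoothGeneral

section Eventually

variable {ι : Type u} [Preorder ι] [IsDirected ι (· ≤ ·)] [Nonempty ι]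
    {A₀ : Type u} [CommRing A₀] {G : ι → Type u} [∀ i, CommRing (G i)] [∀ i, Algebra A₀ (G i)]
    {f : ∀ i j, i ≤ j → (G i →ₐ[A₀] G j)} {A : Type u} [CommRing A] [Algebra A₀ A]
    {g : ∀ i, G i →ₐ[A₀] A}
    {B₀ : Type u} [CommRing B₀] [Algebra A₀ B₀]
    (C : Type u) [CommRing C] [Algebra B₀ C]

omit [Preorder ι] [IsDirected ι (· ≤ ·)] [Nonempty ι] in
theorem Sm_thickProj {P₀ : Type u} [CommRing P₀] [Algebra B₀ P₀] (f₀ : P₀ →ₐ[B₀] C)
    {X Y : Type u} [CommRing X] [Algebra A₀ X] [CommRing Y] [Algebra A₀ Y]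
    (φ : X →ₐ[A₀] Y) (x : (B₀ ⊗[A₀] X) ⊗[B₀] (P₀ ⧸ RingHom.ker f₀.toRingHom ^ 2)) :
    Sm C φ (thickProj (B₀ ⊗[A₀] X) f₀ x) = thickProj (B₀ ⊗[A₀] Y) f₀ (Sm _ φ x) := by
  induction x using TensorProduct.induction_on with
  | zero => rw [map_zero, map_zero, map_zero, map_zero]
  | tmul r q => rfl
  | add x y hx hy => simp only [map_add, hx, hy]

/-- Formal smoothness descends to a finite level. -/
theorem IsWeakColim.eventually_formallySmooth (H : IsWeakColim f g)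
    [Algebra.FinitePresentation B₀ C]
    (h : Algebra.FormallySmooth (B₀ ⊗[A₀] A) ((B₀ ⊗[A₀] A) ⊗[B₀] C)) :
    Eventually g fun k =>
      Algebra.FormallySmooth (B₀ ⊗[A₀] G k) ((B₀ ⊗[A₀] G k) ⊗[B₀] C) := by
  obtain ⟨n, f₀, hf₀, -⟩ := Algebra.FinitePresentation.out (R := B₀) (A := C)
  -- the section over the colimit
  let σ : (B₀ ⊗[A₀] A) ⊗[B₀] C →ₐ[B₀ ⊗[A₀] A]
      (B₀ ⊗[A₀] A) ⊗[B₀] (MvPolynomial (Fin n) B₀ ⧸ RingHom.ker f₀.toRingHom ^ 2) :=
    Algebra.FormallySmooth.liftOfSurjective (AlgHom.id _ _) (thickProj (B₀ ⊗[A₀] A) f₀)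
      (thickProj_surjective _ hf₀) ⟨2, ker_thickProj_sq _ hf₀⟩
  have hσ : ∀ x, thickProj (B₀ ⊗[A₀] A) f₀ (σ x) = x := fun x =>
    Algebra.FormallySmooth.liftOfSurjective_apply (AlgHom.id _ _) (thickProj (B₀ ⊗[A₀] A) f₀)
      (thickProj_surjective _ hf₀) ⟨2, ker_thickProj_sq _ hf₀⟩ x
  let τ : C →ₐ[B₀]
      (B₀ ⊗[A₀] A) ⊗[B₀] (MvPolynomial (Fin n) B₀ ⧸ RingHom.ker f₀.toRingHom ^ 2) :=
    (σ.restrictScalars B₀).comp Algebra.TensorProduct.includeRight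
  obtain ⟨k₁, τ₁, hτ₁⟩ := H.lift_of_finitePresentation
    (MvPolynomial (Fin n) B₀ ⧸ RingHom.ker f₀.toRingHom ^ 2) C τ
  -- compare with `includeRight` at level `k₁`
  let τa : C →ₐ[B₀] (B₀ ⊗[A₀] G k₁) ⊗[B₀] C :=
    ((thickProj (B₀ ⊗[A₀] G k₁) f₀).restrictScalars B₀).comp τ₁
  let τb : C →ₐ[B₀] (B₀ ⊗[A₀] G k₁) ⊗[B₀] C := Algebra.TensorProduct.includeRight
  have heq : (Sm C (g k₁)).comp τa = (Sm C (g k₁)).comp τb := by
    apply AlgHom.ext
    intro c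
    have h1 : Sm _ (g k₁) (τ₁ c) = τ c := DFunLike.congr_fun hτ₁ c
    change Sm C (g k₁) (thickProj (B₀ ⊗[A₀] G k₁) f₀ (τ₁ c)) = Sm C (g k₁) (1 ⊗ₜ c)
    rw [Sm_thickProj, h1]
    change thickProj (B₀ ⊗[A₀] A) f₀ (σ (1 ⊗ₜ c)) = _
    rw [hσ]
    simp
  obtain ⟨k₂, φ₂, hφ₂, h₂⟩ := H.eq_of_finiteType C C τa τb heq
  refine ⟨k₂, fun k' φ' _ => ?_⟩
  refine formallySmooth_of_section (B₀ ⊗[A₀] G k') (f₀ := f₀)
    ((Sm _ (φ'.comp φ₂)).comp τ₁) ?_
  intro c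
  have h3 : Sm C φ₂ (τa c) = Sm C φ₂ (τb c) := DFunLike.congr_fun h₂ c
  rw [AlgHom.comp_apply, ← Sm_thickProj, ← Sm_comp_apply]
  change Sm C φ' (Sm C φ₂ (τa c)) = _
  rw [h3]
  simp [τb]

end Eventually

end Groth.Agent.Helper26
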