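import Mathlib

/-!
# Fibre ranks of finite modules (helper26)

Upper semicontinuity of `y ↦ dim κ(y) ⊗ C` for a finite module `C`, and rank–nullity for base
changes of a linear map.
-/

set_option autoImplicit false
universe u v
open TensorProduct

namespace Groth.Agent.Helper26

variable {B : Type u} [CommRing B] {C : Type v} [AddCommGroup C] [Module B C]

/-- if `f • C ⊆ span s` and `f ∉ q`, then the `1 ⊗ c`, `c ∈ s`, span the fibre at `q`. -/
lemma span_tmul_eq_top_of_forall_smul_mem (q : Ideal B) [q.IsPrime] (s : Set C) (f : B)
    (hf : f ∉ q) (h : ∀ c : C, f • c ∈ Submodule.span B s) :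
    Submodule.span q.ResidueField ((TensorProduct.mk B q.ResidueField C 1) '' s) = ⊤ := by
  rw [eq_top_iff]
  suffices key : ∀ z : q.ResidueField ⊗[B] C, z ∈
      Submodule.span q.ResidueField ((TensorProduct.mk B q.ResidueField C 1) '' s) from
    fun z _ => key z
  intro z
  have hf0 : algebraMap B q.ResidueField f ≠ 0 := fun h0 =>
    hf (Ideal.algebraMap_residueField_eq_zero.mp h0)
  have hmem : ∀ c : C, c ∈ Submodule.span B s →
      (1 : q.ResidueField) ⊗ₜ[B] c ∈
        Submodule.span q.ResidueField ((TensorProduct.mk B q.ResidueField C 1) '' s) := by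
    intro c hc
    refine Submodule.span_induction ?_ ?_ ?_ ?_ hc
    · intro x hx
      exact Submodule.subset_span ⟨x, hx, rfl⟩
    · rw [TensorProduct.tmul_zero]; exact Submodule.zero_mem _
    · intro x y _ _ hx hy
      rw [TensorProduct.tmul_add]; exact Submodule.add_mem _ hx hy
    · intro a x _ hx
      have : (1 : q.ResidueField) ⊗ₜ[B] (a • x) =
          (algebraMap B q.ResidueField a) • ((1 : q.ResidueField) ⊗ₜ[B] x) := by
        rw [TensorProduct.smul_tmul', ← TensorProduct.smul_tmul, Algebra.smul_def, mul_one,
          smul_eq_mul, mul_one]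
      rw [this]
      exact Submodule.smul_mem _ _ hx
  induction z using TensorProduct.induction_on with
  | zero => exact Submodule.zero_mem _
  | tmul k c =>
    have h1 : k ⊗ₜ[B] c = (k * (algebraMap B q.ResidueField f)⁻¹) •
        ((1 : q.ResidueField) ⊗ₜ[B] (f • c)) := by
      rw [← TensorProduct.smul_tmul, TensorProduct.smul_tmul', smul_eq_mul, Algebra.smul_def,
        mul_one, mul_assoc, inv_mul_cancel₀ hf0, mul_one]
    rw [h1]
    exact Submodule.smul_mem _ _ (hmem _ (h c))
  | add x y hx hy => exact Submodule.add_mem _ hx hy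

/-- Nakayama: if the `1 ⊗ c`, `c ∈ s`, span the fibre at `y`, then `f • C ⊆ span s` for some
`f ∉ y`. -/
lemma exists_notMem_forall_smul_mem_span [Module.Finite B C] (y : Ideal B) [y.IsPrime]
    (s : Set C)
    (hs : Submodule.span y.ResidueField ((TensorProduct.mk B y.ResidueField C 1) '' s) = ⊤) :
    ∃ f : B, f ∉ y ∧ ∀ c : C, f • c ∈ Submodule.span B s := by
  set N := Submodule.span B s with hN
  have hQ : Subsingleton (y.ResidueField ⊗[B] (C ⧸ N)) := by
    let g : y.ResidueField ⊗[B] C →ₗ[y.ResidueField] y.ResidueField ⊗[B] (C ⧸ N) :=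
      N.mkQ.baseChange y.ResidueField
    have hg : Function.Surjective g := LinearMap.lTensor_surjective _ N.mkQ_surjective
    have hker : (⊤ : Submodule y.ResidueField (y.ResidueField ⊗[B] C)) ≤ LinearMap.ker g := by
      rw [← hs, Submodule.span_le]
      rintro _ ⟨c, hc, rfl⟩
      rw [SetLike.mem_coe, LinearMap.mem_ker, TensorProduct.mk_apply, LinearMap.baseChange_tmul]
      have : N.mkQ c = 0 := by
        rw [Submodule.mkQ_apply, Submodule.Quotient.mk_eq_zero]
        exact Submodule.subset_span hc
      rw [this, TensorProduct.tmul_zero]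
    refine ⟨fun a b => ?_⟩
    obtain ⟨a', rfl⟩ := hg a
    obtain ⟨b', rfl⟩ := hg b
    rw [LinearMap.mem_ker.mp (hker Submodule.mem_top), LinearMap.mem_ker.mp (hker Submodule.mem_top)]
  have hsupp : (⟨y, inferInstance⟩ : PrimeSpectrum B) ∉ Module.support B (C ⧸ N) := by
    rw [Module.mem_support_iff_nontrivial_residueField_tensorProduct]
    exact not_nontrivial_iff_subsingleton.mpr hQ
  rw [Module.mem_support_iff_of_finite, SetLike.not_le_iff_exists] at hsupp
  obtain ⟨f, hfann, hfy⟩ := hsupp
  refine ⟨f, hfy, fun c => ?_⟩
  have : f • (N.mkQ c) = 0 := Module.mem_annihilator.mp hfann _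
  rwa [← map_smul, Submodule.mkQ_apply, Submodule.Quotient.mk_eq_zero] at this

/-- upper semicontinuity of the fibre dimension of a finite module -/
lemma exists_notMem_forall_finrank_le [Module.Finite B C] (y : Ideal B) [y.IsPrime] :
    ∃ f : B, f ∉ y ∧ ∀ (q : Ideal B) [q.IsPrime], f ∉ q →
      Module.finrank q.ResidueField (q.ResidueField ⊗[B] C) ≤
        Module.finrank y.ResidueField (y.ResidueField ⊗[B] C) := by
  classical
  set T : Set (y.ResidueField ⊗[B] C) := Set.range (TensorProduct.mk B y.ResidueField C 1) with hT
  have hTtop : Submodule.span y.ResidueField T = ⊤ := by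
    have := span_tmul_eq_top_of_forall_smul_mem (C := C) y Set.univ 1 (fun h => by
      exact (Ideal.IsPrime.ne_top inferInstance) ((Ideal.eq_top_iff_one y).mpr h))
      (fun c => by rw [one_smul, Submodule.span_univ]; exact Submodule.mem_top)
    rwa [Set.image_univ] at this
  obtain ⟨g, hgT, hgspan, -⟩ := Submodule.exists_fun_fin_finrank_span_eq y.ResidueField T
  choose m hm using hgT
  have hs : Submodule.span y.ResidueField
      ((TensorProduct.mk B y.ResidueField C 1) '' (Set.range m)) = ⊤ := by
    rw [← Set.range_comp]
    have hmg : (TensorProduct.mk B y.ResidueField C 1) ∘ m = g := funext hm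
    rw [hmg, hgspan, hTtop]
  obtain ⟨f, hfy, hf⟩ := exists_notMem_forall_smul_mem_span y (Set.range m) hs
  refine ⟨f, hfy, fun q _ hfq => ?_⟩
  have hq := span_tmul_eq_top_of_forall_smul_mem q (Set.range m) f hfq hf
  rw [← Set.range_comp] at hq
  have h1 := finrank_range_le_card (R := q.ResidueField)
    ((TensorProduct.mk B q.ResidueField C 1) ∘ m)
  rw [Set.finrank, hq, finrank_top, Fintype.card_fin, hTtop, finrank_top] at h1
  exact h1

/-- rank–nullity for the base change of a linear map to a field -/
lemma finrank_range_baseChange_add_finrank {K : Type*} {K' : Type*} [AddCommGroup K] [Module B K]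
    [AddCommGroup K'] [Module B K'] [Module.Finite B K'] (φ : K →ₗ[B] K')
    (κ : Type*) [Field κ] [Algebra B κ] :
    Module.finrank κ (LinearMap.range (φ.baseChange κ)) +
      Module.finrank κ (κ ⊗[B] (K' ⧸ LinearMap.range φ)) = Module.finrank κ (κ ⊗[B] K') := by
  let g : κ ⊗[B] K' →ₗ[κ] κ ⊗[B] (K' ⧸ LinearMap.range φ) :=
    (LinearMap.range φ).mkQ.baseChange κ
  have hg : Function.Surjective g := LinearMap.lTensor_surjective _ (Submodule.mkQ_surjective _)
  have hex : Function.Exact (φ.lTensor κ) ((LinearMap.range φ).mkQ.lTensor κ) :=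
    lTensor_exact κ (LinearMap.exact_map_mkQ_range φ) (Submodule.mkQ_surjective _)
  have hker : LinearMap.ker g = LinearMap.range (φ.baseChange κ) := by
    ext z
    rw [LinearMap.mem_ker, LinearMap.mem_range]
    exact hex z
  have h1 := LinearMap.finrank_range_add_finrank_ker g
  rw [LinearMap.range_eq_top.mpr hg, finrank_top, hker] at h1
  rw [add_comm]
  exact h1

/-- a family of `dim κ(y) ⊗ C` elements of `C` generating `C` up to a multiplier outside `y` -/
lemma exists_fun_fin_forall_smul_mem_span [Module.Finite B C] (y : Ideal B) [y.IsPrime] :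
    ∃ (m : Fin (Module.finrank y.ResidueField (y.ResidueField ⊗[B] C)) → C) (f : B),
      f ∉ y ∧ ∀ c : C, f • c ∈ Submodule.span B (Set.range m) := by
  classical
  set T : Set (y.ResidueField ⊗[B] C) := Set.range (TensorProduct.mk B y.ResidueField C 1) with hT
  have hTtop : Submodule.span y.ResidueField T = ⊤ := by
    have := span_tmul_eq_top_of_forall_smul_mem (C := C) y Set.univ 1 (fun h => by
      exact (Ideal.IsPrime.ne_top inferInstance) ((Ideal.eq_top_iff_one y).mpr h))
      (fun c => by rw [one_smul, Submodule.span_univ]; exact Submodule.mem_top)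
    rwa [Set.image_univ] at this
  obtain ⟨g, hgT, hgspan, -⟩ := Submodule.exists_fun_fin_finrank_span_eq y.ResidueField T
  choose m hm using hgT
  have hs : Submodule.span y.ResidueField
      ((TensorProduct.mk B y.ResidueField C 1) '' (Set.range m)) = ⊤ := by
    rw [← Set.range_comp]
    have hmg : (TensorProduct.mk B y.ResidueField C 1) ∘ m = g := funext hm
    rw [hmg, hgspan, hTtop]
  obtain ⟨f, hfy, hf⟩ := exists_notMem_forall_smul_mem_span y (Set.range m) hs
  have hcard : Module.finrank y.ResidueField (y.ResidueField ⊗[B] C) =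
      Module.finrank y.ResidueField (Submodule.span y.ResidueField T) := by
    rw [hTtop, finrank_top]
  refine ⟨m ∘ (finCongr hcard), f, hfy, fun c => ?_⟩
  rw [(finCongr hcard).surjective.range_comp]
  exact hf c

/-- over a reduced ring, if the `m i` generate `C` up to the multiplier `f` and all fibres over
`D(f)` have dimension equal to the number of the `m i`, then every relation between the `m i` is
killed by `f`. -/
lemma mul_eq_zero_of_sum_smul_eq_zero [IsReduced B] {n : ℕ} (m : Fin n → C) (f : B)
    (hf : ∀ c : C, f • c ∈ Submodule.span B (Set.range m))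
    (hrank : ∀ (q : Ideal B) [q.IsPrime], f ∉ q →
      Module.finrank q.ResidueField (q.ResidueField ⊗[B] C) = n)
    (l : Fin n → B) (hl : ∑ i, l i • m i = 0) (i : Fin n) : f * l i = 0 := by
  classical
  have hnil : f * l i ∈ nilradical B := by
    rw [nilradical_eq_sInf, Ideal.mem_sInf]
    intro q hq
    have : q.IsPrime := hq
    by_cases hfq : f ∈ q
    · exact q.mul_mem_right _ hfq
    · have hspan := span_tmul_eq_top_of_forall_smul_mem q (Set.range m) f hfq hf
      rw [← Set.range_comp] at hspan
      have hli : LinearIndependent q.ResidueField ((TensorProduct.mk B q.ResidueField C 1) ∘ m) :=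
        linearIndependent_of_top_le_span_of_card_eq_finrank hspan.ge
          (by rw [Fintype.card_fin, hrank q hfq])
      have hsum : ∑ j, (algebraMap B q.ResidueField (l j)) •
          ((TensorProduct.mk B q.ResidueField C 1) ∘ m) j = 0 := by
        have h1 : ∀ j, (algebraMap B q.ResidueField (l j)) •
            ((TensorProduct.mk B q.ResidueField C 1) ∘ m) j =
            (1 : q.ResidueField) ⊗ₜ[B] (l j • m j) := by
          intro j
          rw [Function.comp_apply, TensorProduct.mk_apply, TensorProduct.smul_tmul',
            smul_eq_mul, mul_one, Algebra.algebraMap_eq_smul_one, TensorProduct.smul_tmul]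
        simp only [h1]
        rw [← TensorProduct.tmul_sum, hl, TensorProduct.tmul_zero]
      have := Fintype.linearIndependent_iff.mp hli _ hsum i
      exact q.mul_mem_left _ (Ideal.algebraMap_residueField_eq_zero.mp this)
  exact (mem_nilradical.mp hnil).eq_zero

/-- local freeness criterion: if the `m i` generate `C` up to the multiplier `f ∉ P` and all
relations between them are killed by `f`, then `C_P` is free, hence projective. -/
lemma projective_localizedModule_atPrime (P : Ideal B) [P.IsPrime] {n : ℕ} (m : Fin n → C)
    (f : B) (hfP : f ∉ P) (hf : ∀ c : C, f • c ∈ Submodule.span B (Set.range m))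
    (hrel : ∀ l : Fin n → B, ∑ i, l i • m i = 0 → ∀ i, f * l i = 0) :
    Module.Projective (Localization.AtPrime P) (LocalizedModule P.primeCompl C) := by
  classical
  let fS : P.primeCompl := ⟨f, hfP⟩
  let ψ : (Fin n → B) →ₗ[B] C := Fintype.linearCombination B m
  have hψ : ∀ l, ψ l = ∑ i, l i • m i := fun l => Fintype.linearCombination_apply B m l
  have hrange : ∀ c, f • c ∈ LinearMap.range ψ := by
    intro c
    rw [Fintype.range_linearCombination]
    exact hf c
  let ψS := LocalizedModule.map P.primeCompl ψ
  have hinj : Function.Injective ψS := by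
    rw [injective_iff_map_eq_zero]
    intro x hx
    induction x using LocalizedModule.induction_on with
    | h l s =>
      rw [LocalizedModule.map_mk, ← LocalizedModule.zero_mk s, LocalizedModule.mk_eq] at hx
      obtain ⟨u, hu⟩ := hx
      have h0 : ψ (((u : B) * (s : B)) • l) = 0 := by
        rw [map_smul, mul_smul]
        simpa [Submonoid.smul_def] using hu
      have h1 : ∀ i, f * ((((u : B) * (s : B)) • l) i) = 0 := hrel _ (by rw [← hψ]; exact h0)
      rw [← LocalizedModule.zero_mk s, LocalizedModule.mk_eq]
      refine ⟨fS * u, ?_⟩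
      rw [smul_zero, smul_zero]
      funext i
      have := h1 i
      simp only [Pi.smul_apply, smul_eq_mul] at this
      simp only [Submonoid.smul_def, Submonoid.coe_mul, Pi.smul_apply, smul_eq_mul, Pi.zero_apply,
        fS]
      rw [← this]
      ring
  have hsurj : Function.Surjective ψS := by
    intro y
    induction y using LocalizedModule.induction_on with
    | h c s =>
      obtain ⟨l, hl⟩ := hrange c
      refine ⟨LocalizedModule.mk l (fS * s), ?_⟩
      rw [LocalizedModule.map_mk, hl]
      exact LocalizedModule.mk_cancel_common_left fS s c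
  let e : LocalizedModule P.primeCompl (Fin n → B) ≃ₗ[Localization.AtPrime P]
      LocalizedModule P.primeCompl C := LinearEquiv.ofBijective ψS ⟨hinj, hsurj⟩
  have hfree : Module.Free (Localization.AtPrime P) (LocalizedModule P.primeCompl (Fin n → B)) :=
    Module.free_of_isLocalizedModule P.primeCompl
      (LocalizedModule.mkLinearMap P.primeCompl (Fin n → B))
  have : Module.Free (Localization.AtPrime P) (LocalizedModule P.primeCompl C) :=
    Module.Free.of_equiv e
  infer_instance

end Groth.Agent.Helper26
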