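import Mathlib

/-!
# Generic smoothness for finitely generated fields (helper26)

If `K` is a field, formally smooth over a Noetherian ring `R₀`, and `A₀ ⊆ K` is a finitely generated
`R₀`-subalgebra whose fractions give all of `K`, then some `R₀`-subalgebra `A ⊇ A₀` of `K`
(a localization `A₀[1/f]`) is smooth over `R₀`.
-/

set_option autoImplicit false
set_option linter.style.haveILetI false
universe u v

namespace Groth.Agent.Helper26.GenericSmooth

theorem exists_frac {R₀ : Type v} {K : Type u} [CommRing R₀] [Field K] [Algebra R₀ K] (s : Set K)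
    (hs : Subfield.closure s = ⊤) (z : K) :
    ∃ x y : Algebra.adjoin R₀ s, z = (x : K) / (y : K) := by
  have hz : z ∈ Subfield.closure s := by rw [hs]; trivial
  obtain ⟨y, hy, w, hw, rfl⟩ := Subfield.mem_closure_iff.mp hz
  have hle : Subring.closure s ≤ (Algebra.adjoin R₀ s).toSubring :=
    Subring.closure_le.mpr Algebra.subset_adjoin
  exact ⟨⟨y, hle hy⟩, ⟨w, hle hw⟩, rfl⟩

theorem isFractionRing_of_frac {R₀ : Type v} {K : Type u} [CommRing R₀] [Field K] [Algebra R₀ K]
    (A : Subalgebra R₀ K) (h : ∀ z : K, ∃ x y : A, z = (x : K) / (y : K)) :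
    IsFractionRing A K := by
  haveI : FaithfulSMul A K :=
    (faithfulSMul_iff_algebraMap_injective A K).mpr Subtype.val_injective
  exact IsFractionRing.of_field A K (fun z => by obtain ⟨x, y, h⟩ := h z; exact ⟨x, y, h⟩)

theorem exists_smooth_subalgebra {R₀ : Type v} {K : Type u} [CommRing R₀] [IsNoetherianRing R₀]
    [Field K] [Algebra R₀ K] [Algebra.FormallySmooth R₀ K] (A₀ : Subalgebra R₀ K) (hfg : A₀.FG)
    (hfrac : ∀ z : K, ∃ x y : A₀, z = (x : K) / (y : K)) :
    ∃ A : Subalgebra R₀ K, A₀ ≤ A ∧ Algebra.Smooth R₀ A := by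
  classical
  haveI : Algebra.FiniteType R₀ A₀ := (Subalgebra.fg_iff_finiteType A₀).mp hfg
  haveI : Algebra.FinitePresentation R₀ A₀ :=
    Algebra.FinitePresentation.of_finiteType.mp inferInstance
  haveI : IsFractionRing A₀ K := isFractionRing_of_frac A₀ hfrac
  have hcompl : (⊥ : Ideal A₀).primeCompl = nonZeroDivisors A₀ := by
    ext x
    rw [Ideal.mem_primeCompl_iff, Ideal.mem_bot, mem_nonZeroDivisors_iff_ne_zero]
  haveI : IsLocalization (⊥ : Ideal A₀).primeCompl K := by rw [hcompl]; infer_instance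
  haveI : Algebra.IsSmoothAt R₀ (⊥ : Ideal A₀) := by
    show Algebra.FormallySmooth R₀ (Localization.AtPrime (⊥ : Ideal A₀))
    exact Algebra.FormallySmooth.of_equiv
      ((IsLocalization.algEquiv (⊥ : Ideal A₀).primeCompl K
        (Localization.AtPrime (⊥ : Ideal A₀))).restrictScalars R₀)
  obtain ⟨f, hf, hsm⟩ := Algebra.IsSmoothAt.exists_notMem_smooth R₀ (⊥ : Ideal A₀)
  have hf0 : f ≠ 0 := fun h => hf (by rw [h]; exact Ideal.zero_mem _)
  have hunit : ∀ y : Submonoid.powers f, IsUnit (A₀.val y) := by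
    rintro ⟨_, n, rfl⟩
    rw [map_pow]
    refine IsUnit.pow n (IsUnit.mk0 _ ?_)
    exact fun h => hf0 (Subtype.ext h)
  obtain ⟨φ, hφ⟩ : ∃ φ : Localization.Away f →ₐ[R₀] K,
      ∀ a : A₀, φ (algebraMap A₀ (Localization.Away f) a) = (a : K) :=
    ⟨IsLocalization.liftAlgHom (M := Submonoid.powers f) (f := A₀.val) hunit,
      fun a => IsLocalization.lift_eq _ a⟩
  have hφinj : Function.Injective φ := by
    rw [injective_iff_map_eq_zero]
    intro z hz
    obtain ⟨⟨a, t⟩, h⟩ := IsLocalization.surj (Submonoid.powers f) z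
    dsimp only at h
    have h1 := congrArg φ h
    rw [map_mul, hz, zero_mul, hφ] at h1
    have ha : a = 0 := Subtype.ext h1.symm
    rw [ha, map_zero] at h
    exact (IsUnit.mul_left_eq_zero (IsLocalization.map_units _ t)).mp h
  refine ⟨φ.range, ?_, Algebra.Smooth.of_equiv (AlgEquiv.ofInjective φ hφinj)⟩
  intro x hx
  exact ⟨algebraMap A₀ _ ⟨x, hx⟩, hφ ⟨x, hx⟩⟩

end Groth.Agent.Helper26.GenericSmooth
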