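import Mathlib
import Groth.Agent.S2042

/-! Idempotent matrices, their images, base change, and étale lifting of idempotent matrices. -/

set_option autoImplicit false
set_option linter.style.haveILetI false
universe u

open TensorProduct

namespace Groth.Agent.Helper26.IdemMatrix

section General

variable {R : Type*} [CommRing R] {n : ℕ}

/-- The image of a square matrix acting on column vectors. -/
abbrev Im (M : Matrix (Fin n) (Fin n) R) : Submodule R (Fin n → R) :=
  LinearMap.range (Matrix.toLin' M)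

theorem toLin'_idem {M : Matrix (Fin n) (Fin n) R} (hM : IsIdempotentElem M) (v : Fin n → R) :
    Matrix.toLin' M (Matrix.toLin' M v) = Matrix.toLin' M v := by
  rw [← LinearMap.comp_apply, ← Matrix.toLin'_mul, hM.eq]

theorem projective_Im {M : Matrix (Fin n) (Fin n) R} (hM : IsIdempotentElem M) :
    Module.Projective R (Im M) := by
  refine Module.Projective.of_split (Im M).subtype (Matrix.toLin' M).rangeRestrict ?_
  refine LinearMap.ext fun q => ?_
  obtain ⟨v, hv⟩ := q
  obtain ⟨w, rfl⟩ := LinearMap.mem_range.mp hv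
  apply Subtype.ext
  exact toLin'_idem hM w

/-- Base change of the image of an idempotent matrix is the image of the base-changed matrix. -/
theorem baseChange_range_equiv {S : Type*} [CommRing S] [Algebra R S]
    (M : Matrix (Fin n) (Fin n) R) (hM : IsIdempotentElem M) (M' : Matrix (Fin n) (Fin n) S)
    (hM' : M' = M.map (algebraMap R S)) :
    Nonempty (S ⊗[R] Im M ≃ₗ[S] Im M') := by
  subst hM'
  have hMS : IsIdempotentElem (M.map (algebraMap R S)) := hM.map (algebraMap R S).mapMatrix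
  let φ : (Fin n → R) →ₗ[R] (Fin n → R) := Matrix.toLin' M
  let φS : (Fin n → S) →ₗ[S] (Fin n → S) := Matrix.toLin' (M.map (algebraMap R S))
  let ι : Im M →ₗ[R] (Fin n → R) := (Im M).subtype
  let π : (Fin n → R) →ₗ[R] Im M := φ.rangeRestrict
  have hπι : π ∘ₗ ι = LinearMap.id := by
    refine LinearMap.ext fun q => ?_
    obtain ⟨v, hv⟩ := q
    obtain ⟨w, rfl⟩ := LinearMap.mem_range.mp hv
    apply Subtype.ext
    exact toLin'_idem hM w
  have hιπ : ι ∘ₗ π = φ := LinearMap.ext fun v => rfl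
  let e : S ⊗[R] (Fin n → R) ≃ₗ[S] (Fin n → S) := TensorProduct.piScalarRight R S S (Fin n)
  have key : ∀ x : S ⊗[R] (Fin n → R), e (φ.baseChange S x) = φS (e x) := by
    have : e.toLinearMap ∘ₗ φ.baseChange S = φS ∘ₗ e.toLinearMap := by
      apply TensorProduct.AlgebraTensorModule.ext
      intro s f
      ext j
      simp only [LinearMap.comp_apply, LinearEquiv.coe_coe, LinearMap.baseChange_tmul, e, φ, φS,
        TensorProduct.piScalarRight_apply, TensorProduct.piScalarRightHom_tmul, Matrix.toLin'_apply,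
        Matrix.mulVec, dotProduct, Matrix.map_apply, Finset.sum_smul]
      refine Finset.sum_congr rfl fun k _ => ?_
      rw [Algebra.smul_def, Algebra.smul_def, map_mul, mul_assoc]
    exact fun x => LinearMap.congr_fun this x
  have hπιS : ∀ x, π.baseChange S (ι.baseChange S x) = x := by
    intro x
    rw [← LinearMap.comp_apply, ← LinearMap.baseChange_comp, hπι, LinearMap.baseChange_id,
      LinearMap.id_apply]
  have hιπS : ∀ x, ι.baseChange S (π.baseChange S x) = φ.baseChange S x := by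
    intro x
    rw [← LinearMap.comp_apply, ← LinearMap.baseChange_comp, hιπ]
  have hmem : ∀ x : S ⊗[R] Im M,
      (e.toLinearMap ∘ₗ ι.baseChange S) x ∈ Im (M.map (algebraMap R S)) := by
    intro x
    refine ⟨e (ι.baseChange S x), ?_⟩
    show φS (e (ι.baseChange S x)) = e (ι.baseChange S x)
    rw [← key, ← hιπS, hπιS]
  let fwd : S ⊗[R] Im M →ₗ[S] Im (M.map (algebraMap R S)) :=
    LinearMap.codRestrict _ (e.toLinearMap ∘ₗ ι.baseChange S) hmem
  let bwd : Im (M.map (algebraMap R S)) →ₗ[S] S ⊗[R] Im M :=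
    π.baseChange S ∘ₗ e.symm.toLinearMap ∘ₗ (Im (M.map (algebraMap R S))).subtype
  refine ⟨LinearEquiv.ofLinearMap fwd bwd ?_ ?_⟩
  · refine LinearMap.ext fun y => ?_
    obtain ⟨y, hy⟩ := y
    obtain ⟨z, rfl⟩ := LinearMap.mem_range.mp hy
    apply Subtype.ext
    show e (ι.baseChange S (π.baseChange S (e.symm (φS z)))) = φS z
    rw [hιπS, key, e.apply_symm_apply]
    exact toLin'_idem hMS z
  · refine LinearMap.ext fun x => ?_
    show π.baseChange S (e.symm (e (ι.baseChange S x))) = x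
    rw [e.symm_apply_apply, hπιS]

/-- A finite projective module is the image of an idempotent matrix. -/
theorem exists_equiv_Im (P : Type*) [AddCommGroup P] [Module R P] [Module.Finite R P]
    [Module.Projective R P] :
    ∃ (n : ℕ) (ε : Matrix (Fin n) (Fin n) R), IsIdempotentElem ε ∧ Nonempty (P ≃ₗ[R] Im ε) := by
  obtain ⟨n, f, hf⟩ := Module.Finite.exists_fin' R P
  obtain ⟨s, hs⟩ := Module.projective_lifting_property f LinearMap.id hf
  have hfs : ∀ x, f (s x) = x := fun x => LinearMap.congr_fun hs x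
  obtain ⟨ε, hεdef⟩ : ∃ ε, ε = LinearMap.toMatrix' (s ∘ₗ f) := ⟨_, rfl⟩
  have hεlin : Matrix.toLin' ε = s ∘ₗ f := by rw [hεdef, Matrix.toLin'_toMatrix']
  have hε : IsIdempotentElem ε := by
    apply Matrix.toLin'.injective
    rw [Matrix.toLin'_mul, hεlin]
    refine LinearMap.ext fun v => ?_
    show s (f (s (f v))) = s (f v)
    rw [hfs]
  have hsinj : Function.Injective s := fun x y h => by
    have := congrArg f h
    rwa [hfs, hfs] at this
  have hrange : LinearMap.range s = Im ε := by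
    show _ = LinearMap.range (Matrix.toLin' ε)
    rw [hεlin, LinearMap.range_comp_of_range_eq_top _ (LinearMap.range_eq_top.mpr hf)]
  exact ⟨n, ε, hε, ⟨(LinearEquiv.ofInjective s hsinj).trans (LinearEquiv.ofEq _ _ hrange)⟩⟩

end General

open Polynomial in
/-- An idempotent matrix over `A/I` lifts to an idempotent matrix over an étale `A`-algebra `A'`
with `A/I = A'/IA'`. -/
theorem exists_idem_matrix_lift {A : Type u} [CommRing A] (I : Ideal A) {n : ℕ}
    (ε : Matrix (Fin n) (Fin n) (A ⧸ I)) (hε : IsIdempotentElem ε) :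
    ∃ (A' : Type u) (_ : CommRing A') (_ : Algebra A A'), Algebra.Etale A A' ∧
      Function.Bijective (algebraMap (A ⧸ I) (A' ⧸ I.map (algebraMap A A'))) ∧
      ∃ e' : Matrix (Fin n) (Fin n) A', IsIdempotentElem e' ∧
        e'.map (algebraMap A' (A' ⧸ I.map (algebraMap A A'))) =
          ε.map (algebraMap (A ⧸ I) (A' ⧸ I.map (algebraMap A A'))) := by
  classical
  obtain ⟨E, hE⟩ : ∃ E : Matrix (Fin n) (Fin n) A, E.map (Ideal.Quotient.mk I) = ε :=
    ⟨fun i j => (Ideal.Quotient.mk_surjective (ε i j)).choose,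
      by ext i j; exact (Ideal.Quotient.mk_surjective (ε i j)).choose_spec⟩
  obtain ⟨c, hc⟩ : ∃ c : Matrix (Fin n) (Fin n) A, c = E * E - E := ⟨_, rfl⟩
  have hcmap : c.map (Ideal.Quotient.mk I) = 0 := by
    have : (Ideal.Quotient.mk I).mapMatrix c = 0 := by
      rw [hc, map_sub, map_mul, RingHom.mapMatrix_apply, hE, hε.eq, sub_self]
    exact this
  obtain ⟨ψ, hψ⟩ : ∃ ψ : A[X], ψ = c.charpoly * X := ⟨_, rfl⟩
  have hψmonic : ψ.Monic := by rw [hψ]; exact (Matrix.charpoly_monic c).mul monic_X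
  have hψmap : ψ.map (Ideal.Quotient.mk I) = X ^ (n + 1) := by
    rw [hψ, Polynomial.map_mul, map_X, ← Matrix.charpoly_map, hcmap, Matrix.charpoly_zero,
      Fintype.card_fin, pow_succ]
  have hψc : aeval c ψ = 0 := by
    rw [hψ, map_mul, Matrix.aeval_self_charpoly, zero_mul]
  obtain ⟨Q, hQdef⟩ : ∃ Q : A[X], Q = X ^ 2 - X := ⟨_, rfl⟩
  have hQmonic : Q.Monic := by
    rw [hQdef]
    exact monic_X_pow_sub (lt_of_le_of_lt degree_X_le (by exact_mod_cast Nat.one_lt_two))
  rcases subsingleton_or_nontrivial A with hA | hA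
  · -- degenerate case
    have hQ' : Subsingleton (A ⧸ I.map (algebraMap A A)) :=
      Function.Surjective.subsingleton Ideal.Quotient.mk_surjective
    refine ⟨A, inferInstance, inferInstance, inferInstance,
      ⟨fun x y _ => Subsingleton.elim _ _, fun y => ⟨0, Subsingleton.elim _ _⟩⟩,
      0, IsIdempotentElem.zero, ?_⟩
    ext i j
    exact Subsingleton.elim _ _
  have hQdeg : Q.natDegree ≠ 0 := by
    have : Q.natDegree = 2 := by
      rw [hQdef, natDegree_sub_eq_left_of_natDegree_lt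
        (by rw [natDegree_X_pow, natDegree_X]; norm_num), natDegree_X_pow]
    rw [this]; norm_num
  obtain ⟨F, hFdef⟩ : ∃ F : A[X], F = ψ.comp Q := ⟨_, rfl⟩
  have hFmonic : F.Monic := by rw [hFdef]; exact hψmonic.comp hQmonic hQdeg
  have hFeval : aeval E F = 0 := by
    rw [hFdef, aeval_comp]
    have : aeval E Q = c := by rw [hQdef, hc]; simp [pow_two]
    rw [this, hψc]
  have hFmap : F.map (Ideal.Quotient.mk I) = X ^ (n + 1) * (X - C 1) ^ (n + 1) := by
    rw [hFdef, Polynomial.map_comp, hψmap, X_pow_comp, hQdef, ← mul_pow]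
    congr 1
    simp only [Polynomial.map_sub, Polynomial.map_pow, map_X, map_one]
    ring
  have hcop0 : IsCoprime (X ^ (n + 1) : (A ⧸ I)[X]) ((X - C 1) ^ (n + 1)) := by
    apply IsCoprime.pow
    exact ⟨1, -1, by simp⟩
  obtain ⟨A', _, _, hA', -, hbij, G, H, -, -, hfac, hG, hH, hGH⟩ :=
    Groth.Agent.S2042.core' I F hFmonic (X ^ (n + 1)) ((X - C 1) ^ (n + 1)) (monic_X_pow (n + 1))
      ((monic_X_sub_C 1).pow (n + 1)) hcop0 hFmap 1 (by rw [map_one]; exact isUnit_one)
  refine ⟨A', inferInstance, inferInstance, hA', hbij, ?_⟩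
  obtain ⟨u, v, huv⟩ := hGH
  obtain ⟨E₁, hE₁⟩ : ∃ E₁ : Matrix (Fin n) (Fin n) A', E₁ = E.map (algebraMap A A') := ⟨_, rfl⟩
  have hFE₁ : aeval E₁ (F.map (algebraMap A A')) = 0 := by
    rw [aeval_map_algebraMap]
    have : E₁ = (Algebra.ofId A A').mapMatrix E := by rw [hE₁]; rfl
    rw [this, aeval_algHom_apply, hFeval, map_zero]
  obtain ⟨e', he'def⟩ : ∃ e' : Matrix (Fin n) (Fin n) A', e' = aeval E₁ (u * G) := ⟨_, rfl⟩
  have hidem : IsIdempotentElem e' := by
    have hpoly : (u * G) * (u * G) - u * G = - (u * v) * (F.map (algebraMap A A')) := by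
      rw [hfac]; linear_combination (u * G) * huv
    have h2 := congrArg (aeval E₁) hpoly
    rw [map_mul (aeval E₁) (-(u * v)), hFE₁, mul_zero, map_sub, map_mul, ← he'def] at h2
    exact sub_eq_zero.mp h2
  -- reduction modulo `I A'`
  let φ : Matrix (Fin n) (Fin n) A' →ₐ[A'] Matrix (Fin n) (Fin n) (A' ⧸ I.map (algebraMap A A')) :=
    (Ideal.Quotient.mkₐ A' (I.map (algebraMap A A'))).mapMatrix
  have hφ : ∀ M, φ M = M.map (algebraMap A' (A' ⧸ I.map (algebraMap A A'))) := fun M => rfl
  have hĒ : φ E₁ = ε.map (algebraMap (A ⧸ I) (A' ⧸ I.map (algebraMap A A'))) := by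
    rw [hφ, hE₁, ← hE]
    ext i j
    rfl
  have hĒidem : φ E₁ * φ E₁ = φ E₁ := by
    rw [hĒ]
    exact (hε.map (algebraMap (A ⧸ I) (A' ⧸ I.map (algebraMap A A'))).mapMatrix).eq
  have hmk : algebraMap A' (A' ⧸ I.map (algebraMap A A')) = Ideal.Quotient.mk _ := rfl
  have hG' : G.map (algebraMap A' (A' ⧸ I.map (algebraMap A A'))) = X ^ (n + 1) := by
    rw [hmk, hG, Polynomial.map_pow, map_X]
  have hH' : H.map (algebraMap A' (A' ⧸ I.map (algebraMap A A'))) = (X - 1) ^ (n + 1) := by
    rw [hmk, hH, Polynomial.map_pow, Polynomial.map_sub, map_X, Polynomial.map_C, map_one, C_1]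
  obtain ⟨ub, hub⟩ : ∃ ub, ub = u.map (algebraMap A' (A' ⧸ I.map (algebraMap A A'))) := ⟨_, rfl⟩
  obtain ⟨vb, hvb⟩ : ∃ vb, vb = v.map (algebraMap A' (A' ⧸ I.map (algebraMap A A'))) := ⟨_, rfl⟩
  have huv' : ub * X ^ (n + 1) + vb * (X - 1) ^ (n + 1) = 1 := by
    have := congrArg (Polynomial.map (algebraMap A' (A' ⧸ I.map (algebraMap A A')))) huv
    rwa [Polynomial.map_add, Polynomial.map_mul, Polynomial.map_mul, hG', hH', Polynomial.map_one,
      ← hub, ← hvb] at this
  have hid : ub * X ^ (n + 1) - X = (X ^ 2 - X) * (-ub * X ^ n - vb * (X - 1) ^ n) := by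
    linear_combination X * huv'
  have hred : φ e' = φ E₁ := by
    have h1 : φ e' =
        aeval (φ E₁) ((u * G).map (algebraMap A' (A' ⧸ I.map (algebraMap A A')))) := by
      rw [he'def, aeval_map_algebraMap, aeval_algHom_apply]
    rw [h1, Polynomial.map_mul, hG', ← hub]
    have h2 := congrArg (aeval (φ E₁)) hid
    rw [map_sub, aeval_X, map_mul (aeval (φ E₁)) (X ^ 2 - X), map_sub (aeval (φ E₁)) (X ^ 2 : (A' ⧸ I.map (algebraMap A A'))[X]) X,
      map_pow, aeval_X, pow_two, hĒidem, sub_self, zero_mul] at h2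
    exact sub_eq_zero.mp h2
  exact ⟨e', hidem, (hφ e').symm.trans (hred.trans hĒ)⟩

end Groth.Agent.Helper26.IdemMatrix
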