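import Mathlib

/-! Abstract Jacobian criterion for formal smoothness of a quotient of a formally smooth algebra
over a local ring, via `Algebra.Extension.formallySmooth_iff_split_injection`. -/

set_option autoImplicit false
set_option linter.style.haveILetI false
universe u v w

open TensorProduct

namespace Groth.Agent.Helper26.JacobianCrit

section Abstract

variable {R : Type u} {S : Type v} {P₀ : Type w} [CommRing R] [CommRing S] [Algebra R S]
  [CommRing P₀] [Algebra R P₀] [Algebra P₀ S] [IsScalarTower R P₀ S]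

/-- The extension attached to a surjection `P₀ → S`. -/
noncomputable abbrev mkExt (hsurj : Function.Surjective (algebraMap P₀ S)) :
    Algebra.Extension.{w} R S :=
  ⟨P₀, Function.surjInv hsurj, Function.surjInv_eq hsurj⟩

/-- If generators `g_i` of the kernel and functionals `λ_j` on `S ⊗ Ω` have invertible
"Jacobian matrix" `(λ_j (1 ⊗ d g_i))`, then `S` is formally smooth. -/
theorem formallySmooth_of_functionals [Algebra.FormallySmooth R P₀]
    (hsurj : Function.Surjective (algebraMap P₀ S))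
    {m : ℕ} (g : Fin m → P₀) (hg : Ideal.span (Set.range g) = RingHom.ker (algebraMap P₀ S))
    (lam : Fin m → (S ⊗[P₀] Ω[P₀⁄R] →ₗ[S] S))
    (hdet : IsUnit (Matrix.det (Matrix.of fun i j =>
      lam j ((1 : S) ⊗ₜ[P₀] KaehlerDifferential.D R P₀ (g i))))) :
    Algebra.FormallySmooth R S := by
  classical
  let P : Algebra.Extension.{w} R S := mkExt (R := R) hsurj
  have : Algebra.FormallySmooth R P.Ring := ‹_›
  have hg' : Ideal.span (Set.range g) = P.ker := hg
  have hgi : ∀ i, g i ∈ P.ker := fun i => hg'.le (Ideal.subset_span ⟨i, rfl⟩)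
  have hspan := Algebra.Extension.Cotangent.span_eq_top_of_span_eq_ker (P := P) g hg'
  obtain ⟨M, hM⟩ : ∃ M : Matrix (Fin m) (Fin m) S, M = Matrix.of fun i j =>
      lam j ((1 : S) ⊗ₜ[P₀] KaehlerDifferential.D R P₀ (g i)) := ⟨_, rfl⟩
  rw [← hM] at hdet
  have hMN : M * M⁻¹ = 1 := Matrix.mul_nonsing_inv M hdet
  let mkg : Fin m → P.Cotangent := fun i => Algebra.Extension.Cotangent.mk ⟨g i, hgi i⟩
  let lam' : Fin m → (P.CotangentSpace →ₗ[S] S) := lam
  let l : P.CotangentSpace →ₗ[S] P.Cotangent :=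
    ∑ i, ∑ j, (M⁻¹ j i) • ((lam' j).smulRight (mkg i))
  rw [Algebra.Extension.formallySmooth_iff_split_injection P]
  refine ⟨l, ?_⟩
  refine LinearMap.ext_on hspan ?_
  rintro _ ⟨i', rfl⟩
  show l (P.cotangentComplex (mkg i')) = mkg i'
  rw [Algebra.Extension.cotangentComplex_mk]
  have hlam : ∀ j, lam' j ((1 : S) ⊗ₜ[P.Ring] KaehlerDifferential.D R P.Ring (g i')) = M i' j := by
    intro j; rw [hM]; rfl
  have hl : ∀ w, l w = ∑ i, ∑ j, (M⁻¹ j i) • ((lam' j w) • mkg i) := by
    intro w
    simp only [l, LinearMap.sum_apply, LinearMap.smul_apply, LinearMap.smulRight_apply]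
  rw [hl]
  have h2 : ∀ i, ∑ j, M⁻¹ j i •
      ((lam' j ((1 : S) ⊗ₜ[P.Ring] KaehlerDifferential.D R P.Ring (g i'))) • mkg i) =
      (M * M⁻¹) i' i • mkg i := by
    intro i
    rw [Matrix.mul_apply, Finset.sum_smul]
    refine Finset.sum_congr rfl fun j _ => ?_
    rw [hlam, smul_smul, mul_comm]
  have h3 : ∀ i, (∑ j, M⁻¹ j i • ((lam' j ((1 : S) ⊗ₜ[P.Ring]
      KaehlerDifferential.D R P.Ring ((⟨g i', hgi i'⟩ : P.ker) : P.Ring))) • mkg i)) =
      (M * M⁻¹) i' i • mkg i := h2
  rw [Finset.sum_congr rfl fun i _ => h3 i]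
  simp only [hMN, Matrix.one_apply, ite_smul, one_smul, zero_smul, Finset.sum_ite_eq,
    Finset.mem_univ, if_true]

/-- Nakayama: generators of the cotangent module generate the kernel. -/
theorem span_eq_ker_of_span_cotangent_eq_top (P : Algebra.Extension.{w} R S) (hfg : P.ker.FG)
    (hjac : P.ker ≤ Ideal.jacobson ⊥) {ι : Type*} (g : ι → P.Ring) (hg : ∀ i, g i ∈ P.ker)
    (hspan : Submodule.span S (Set.range fun i =>
      Algebra.Extension.Cotangent.mk (⟨g i, hg i⟩ : P.ker)) = ⊤) :
    Ideal.span (Set.range g) = P.ker := by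
  apply le_antisymm
  · rw [Ideal.span_le]; rintro _ ⟨i, rfl⟩; exact hg i
  · refine Submodule.le_of_le_smul_of_le_jacobson_bot hfg hjac ?_
    intro x hx
    have hmem : Algebra.Extension.Cotangent.mk (⟨x, hx⟩ : P.ker) ∈ Submodule.span S
        (Set.range fun i => Algebra.Extension.Cotangent.mk (⟨g i, hg i⟩ : P.ker)) := by
      rw [hspan]; trivial
    have key : ∀ z ∈ Submodule.span S
        (Set.range fun i => Algebra.Extension.Cotangent.mk (⟨g i, hg i⟩ : P.ker)),
        ∃ y : P.ker, (y : P.Ring) ∈ Ideal.span (Set.range g) ∧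
          Algebra.Extension.Cotangent.mk y = z := by
      intro z hz
      induction hz using Submodule.span_induction with
      | mem z hz =>
        obtain ⟨i, rfl⟩ := hz
        exact ⟨⟨g i, hg i⟩, Ideal.subset_span ⟨i, rfl⟩, rfl⟩
      | zero => exact ⟨0, by simp, map_zero _⟩
      | add z₁ z₂ _ _ h₁ h₂ =>
        obtain ⟨y₁, hy₁, rfl⟩ := h₁
        obtain ⟨y₂, hy₂, rfl⟩ := h₂
        exact ⟨y₁ + y₂, Ideal.add_mem _ hy₁ hy₂, map_add _ _ _⟩
      | smul c z _ h =>
        obtain ⟨y, hy, rfl⟩ := h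
        obtain ⟨γ, rfl⟩ := P.algebraMap_surjective c
        refine ⟨γ • y, ?_, ?_⟩
        · show γ * (y : P.Ring) ∈ _
          exact Ideal.mul_mem_left _ _ hy
        · rw [map_smul, algebraMap_smul]
    obtain ⟨y, hy, hyx⟩ := key _ hmem
    have h2 : (y : P.Ring) - x ∈ P.ker ^ 2 :=
      (Algebra.Extension.Cotangent.mk_eq_mk_iff_sub_mem y ⟨x, hx⟩).mp hyx
    have hxy : x = y - (y - x) := by ring
    rw [hxy]
    refine Submodule.sub_mem _ (Submodule.mem_sup_left hy) (Submodule.mem_sup_right ?_)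
    show _ ∈ P.ker * P.ker
    rw [← pow_two]; exact h2

/-- If `S` is local and formally smooth, a spanning family of the kernel contains a finite
subfamily which generates the kernel and admits "dual" functionals on `S ⊗ Ω`. -/
theorem exists_basis_and_functionals [IsLocalRing S] [Algebra.FormallySmooth R P₀]
    [Algebra.FormallySmooth R S]
    (hsurj : Function.Surjective (algebraMap P₀ S)) (hfg : (RingHom.ker (algebraMap P₀ S)).FG)
    (hjac : RingHom.ker (algebraMap P₀ S) ≤ Ideal.jacobson ⊥)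
    {ι : Type*} (s : ι → P₀) (hs : Ideal.span (Set.range s) = RingHom.ker (algebraMap P₀ S)) :
    ∃ (m : ℕ) (a : Fin m → ι) (lam : Fin m → (S ⊗[P₀] Ω[P₀⁄R] →ₗ[S] S)),
      (∀ i j, lam j ((1 : S) ⊗ₜ[P₀] KaehlerDifferential.D R P₀ (s (a i))) =
        if i = j then 1 else 0) ∧
      Ideal.span (Set.range fun i => s (a i)) = RingHom.ker (algebraMap P₀ S) := by
  classical
  let P : Algebra.Extension.{w} R S := mkExt (R := R) hsurj
  have : Algebra.FormallySmooth R P.Ring := ‹_›
  have hs' : Ideal.span (Set.range s) = P.ker := hs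
  have hsi : ∀ x, s x ∈ P.ker := fun x => hs'.le (Ideal.subset_span ⟨x, rfl⟩)
  obtain ⟨l, hl⟩ := (Algebra.Extension.formallySmooth_iff_split_injection P).mp inferInstance
  haveI : Module.Finite S P.Cotangent := Algebra.Extension.Cotangent.finite hfg
  haveI : Module.Projective S P.CotangentSpace :=
    inferInstanceAs (Module.Projective S (S ⊗[P₀] Ω[P₀⁄R]))
  haveI : Module.Projective S P.Cotangent := Module.Projective.of_split P.cotangentComplex l hl
  haveI : Module.FinitePresentation S P.Cotangent := Module.finitePresentation_of_projective S _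
  have hspan := Algebra.Extension.Cotangent.span_eq_top_of_span_eq_ker (P := P) s hs'
  obtain ⟨κ, a, b, hb⟩ := Module.exists_basis_of_span_of_flat _ hspan
  haveI : Finite κ := Module.Finite.finite_basis b
  let e : κ ≃ Fin (Nat.card κ) := Finite.equivFin κ
  let b' := b.reindex e
  have hb' : ∀ i, b' i = Algebra.Extension.Cotangent.mk (⟨s (a (e.symm i)), hsi _⟩ : P.ker) := by
    intro i
    rw [Module.Basis.reindex_apply, hb]
  let lam : Fin (Nat.card κ) → (P.CotangentSpace →ₗ[S] S) := fun j => (b'.coord j) ∘ₗ l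
  refine ⟨Nat.card κ, a ∘ e.symm, lam, ?_, ?_⟩
  · intro i j
    have h1 : (1 : S) ⊗ₜ[P.Ring] KaehlerDifferential.D R P.Ring (s (a (e.symm i))) =
        P.cotangentComplex (b' i) := by
      rw [hb', Algebra.Extension.cotangentComplex_mk]
    show (b'.coord j) (l ((1 : S) ⊗ₜ[P.Ring] KaehlerDifferential.D R P.Ring (s (a (e.symm i))))) = _
    have h2 : l (P.cotangentComplex (b' i)) = b' i := LinearMap.congr_fun hl (b' i)
    rw [h1, h2, Module.Basis.coord_apply, Module.Basis.repr_self, Finsupp.single_apply]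
  · refine span_eq_ker_of_span_cotangent_eq_top P hfg hjac (fun i => s (a (e.symm i)))
      (fun i => hsi _) ?_
    have : (fun i : Fin (Nat.card κ) =>
        Algebra.Extension.Cotangent.mk (⟨s (a (e.symm i)), hsi _⟩ : P.ker)) = b' := by
      funext i; rw [hb']
    rw [this]; exact b'.span_eq

end Abstract

end Groth.Agent.Helper26.JacobianCrit
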