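import Mathlib
import Groth.Agent.S4580

/-! Jacobian criterion (EGA 0_IV / SGA 1 II 4.10 style) in terms of linear independence of the
differentials in `κ(q) ⊗ Ω`, built on `Groth.Agent.S4580.fwd/bwd`. -/

set_option autoImplicit false
set_option linter.style.haveILetI false
universe u

open TensorProduct

namespace Groth.Agent.Helper26.JacDeriv

variable {R A : Type u} [CommRing R] [CommRing A] [Algebra R A]

/-- Transport of smoothness at a prime along an equality of primes. -/
theorem smoothAt_congr {B : Type u} [CommRing B] [Algebra R B] (P P' : Ideal B) [P.IsPrime]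
    [P'.IsPrime] (h : P' = P) :
    Algebra.FormallySmooth R (Localization.AtPrime P') ↔
      Algebra.FormallySmooth R (Localization.AtPrime P) := by
  subst h
  exact Iff.rfl

/-- If the Jacobian determinant w.r.t. some derivations is not in `q`, then the differentials are
linearly independent in `κ(q) ⊗ Ω`. -/
theorem linIndep_of_det {m : ℕ} (q : Ideal A) [q.IsPrime] (f : Fin m → A)
    (D : Fin m → Derivation R A A)
    (hdet : Matrix.det (Matrix.of fun i j => D j (f i)) ∉ q) :
    LinearIndependent q.ResidueField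
      (fun i => (1 : q.ResidueField) ⊗ₜ[A] KaehlerDifferential.D R A (f i)) := by
  classical
  rw [Fintype.linearIndependent_iff]
  intro c hc
  let Λ : Fin m → (q.ResidueField ⊗[A] Ω[A⁄R] →ₗ[q.ResidueField] q.ResidueField) := fun j =>
    ((Algebra.linearMap A q.ResidueField) ∘ₗ
      (D j).liftKaehlerDifferential).liftBaseChange q.ResidueField
  have hΛ : ∀ i j, Λ j ((1 : q.ResidueField) ⊗ₜ[A] KaehlerDifferential.D R A (f i)) =
      algebraMap A q.ResidueField (D j (f i)) := by
    intro i j
    simp only [Λ, LinearMap.liftBaseChange_tmul, one_smul, LinearMap.comp_apply,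
      Derivation.liftKaehlerDifferential_comp_D, Algebra.linearMap_apply]
  obtain ⟨M, hM⟩ : ∃ M : Matrix (Fin m) (Fin m) q.ResidueField,
      M = (algebraMap A q.ResidueField).mapMatrix (Matrix.of fun i j => D j (f i)) := ⟨_, rfl⟩
  have hMdet : M.det ≠ 0 := by
    rw [hM, ← RingHom.map_det, Ne, Ideal.algebraMap_residueField_eq_zero]
    exact hdet
  have hvm : Matrix.vecMul c M = 0 := by
    funext j
    have h1 := congrArg (Λ j) hc
    rw [map_sum, map_zero] at h1
    simp only [map_smul, hΛ, smul_eq_mul] at h1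
    rw [Pi.zero_apply, ← h1]
    simp only [Matrix.vecMul, dotProduct, hM, RingHom.mapMatrix_apply, Matrix.map_apply,
      Matrix.of_apply]
  have := Matrix.eq_zero_of_vecMul_eq_zero hMdet hvm
  intro i
  exact congrFun this i

/-- Linearly independent differentials in `κ(q) ⊗ Ω` with `Ω` projective admit derivations with
Jacobian determinant not in `q`. -/
theorem exists_derivations [Module.Projective A Ω[A⁄R]] {m : ℕ} (q : Ideal A) [q.IsPrime]
    (f : Fin m → A)
    (hli : LinearIndependent q.ResidueField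
      (fun i => (1 : q.ResidueField) ⊗ₜ[A] KaehlerDifferential.D R A (f i))) :
    ∃ D : Fin m → Derivation R A A, Matrix.det (Matrix.of fun i j => D j (f i)) ∉ q := by
  classical
  obtain ⟨g, hg⟩ := LinearMap.exists_leftInverse_of_injective
    (Finsupp.linearCombination q.ResidueField
      (fun i => (1 : q.ResidueField) ⊗ₜ[A] KaehlerDifferential.D R A (f i)))
    (linearIndependent_iff_ker.mp hli)
  let lam : Fin m → (q.ResidueField ⊗[A] Ω[A⁄R] →ₗ[q.ResidueField] q.ResidueField) :=
    fun j => (Finsupp.lapply j) ∘ₗ g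
  have hlam : ∀ i j, lam j ((1 : q.ResidueField) ⊗ₜ[A] KaehlerDifferential.D R A (f i)) =
      if i = j then 1 else 0 := by
    intro i j
    have h1 : Finsupp.linearCombination q.ResidueField
        (fun i => (1 : q.ResidueField) ⊗ₜ[A] KaehlerDifferential.D R A (f i))
        (Finsupp.single i 1) =
        (1 : q.ResidueField) ⊗ₜ[A] KaehlerDifferential.D R A (f i) := by
      rw [Finsupp.linearCombination_single, one_smul]
    have h3 := LinearMap.congr_fun hg (Finsupp.single i (1 : q.ResidueField))
    rw [LinearMap.comp_apply, h1, LinearMap.id_apply] at h3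
    show (g _) j = _
    rw [h3, Finsupp.single_apply]
  obtain ⟨sec, hsec⟩ := Module.projective_def'.mp (inferInstance : Module.Projective A Ω[A⁄R])
  let Λ : Fin m → (Ω[A⁄R] →ₗ[A] q.ResidueField) := fun j =>
    ((lam j).restrictScalars A) ∘ₗ (TensorProduct.mk A q.ResidueField Ω[A⁄R] 1)
  have hΛ : ∀ j x, Λ j x = lam j ((1 : q.ResidueField) ⊗ₜ[A] x) := fun j x => rfl
  let ω : Fin m → Ω[A⁄R] := fun i => KaehlerDifferential.D R A (f i)
  have hΛω : ∀ i j, Λ j (ω i) = if i = j then 1 else 0 := fun i j => by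
    rw [hΛ]; exact hlam i j
  let T : Finset Ω[A⁄R] := Finset.univ.biUnion (fun i => (sec (ω i)).support)
  let Y : Finset q.ResidueField :=
    (Finset.univ ×ˢ T).image (fun jx : Fin m × Ω[A⁄R] => Λ jx.1 jx.2)
  obtain ⟨t, ht⟩ := IsLocalization.exist_integer_multiples_of_finset (nonZeroDivisors (A ⧸ q)) Y
  obtain ⟨s₀, hs₀⟩ := Ideal.Quotient.mk_surjective (t : A ⧸ q)
  have hs₀q : s₀ ∉ q := fun h => nonZeroDivisors.coe_ne_zero t (by
    rw [← hs₀]; exact Ideal.Quotient.eq_zero_iff_mem.mpr h)
  have hs₀K : algebraMap A q.ResidueField s₀ ≠ 0 := by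
    rw [Ne, Ideal.algebraMap_residueField_eq_zero]; exact hs₀q
  have hb : ∀ (j : Fin m) (x : Ω[A⁄R]), ∃ b : A, x ∈ T →
      algebraMap A q.ResidueField b = algebraMap A q.ResidueField s₀ * Λ j x := by
    intro j x
    by_cases hx : x ∈ T
    · have hy : Λ j x ∈ Y := Finset.mem_image.mpr ⟨(j, x), by simp [hx], rfl⟩
      obtain ⟨c, hc⟩ := ht _ hy
      obtain ⟨b, rfl⟩ := Ideal.Quotient.mk_surjective c
      refine ⟨b, fun _ => ?_⟩
      rw [IsScalarTower.algebraMap_apply A (A ⧸ q) q.ResidueField,
        IsScalarTower.algebraMap_apply A (A ⧸ q) q.ResidueField s₀]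
      show algebraMap (A ⧸ q) _ (Ideal.Quotient.mk q b) =
        algebraMap (A ⧸ q) _ (Ideal.Quotient.mk q s₀) * _
      rw [hc, hs₀, Algebra.smul_def]
    · exact ⟨0, fun h => absurd h hx⟩
  choose β hβ using hb
  let δ : Fin m → (Ω[A⁄R] →ₗ[A] A) := fun j => (Finsupp.linearCombination A (β j)) ∘ₗ sec
  let D' : Fin m → Derivation R A A := fun j => (δ j).compDer (KaehlerDifferential.D R A)
  have hkey : ∀ i j, algebraMap A q.ResidueField (D' j (f i)) =
      algebraMap A q.ResidueField s₀ * Λ j (ω i) := by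
    intro i j
    obtain ⟨c, hc⟩ : ∃ c, c = sec (ω i) := ⟨_, rfl⟩
    have h1 : D' j (f i) = Finsupp.linearCombination A (β j) c := by rw [hc]; rfl
    have h2 : ω i = Finsupp.linearCombination A id c := by
      rw [hc]; exact (LinearMap.congr_fun hsec (ω i)).symm
    rw [h1, h2, Finsupp.linearCombination_apply, Finsupp.linearCombination_apply, Finsupp.sum,
      Finsupp.sum, map_sum, map_sum, Finset.mul_sum]
    refine Finset.sum_congr rfl fun x hx => ?_
    have hxT : x ∈ T := Finset.mem_biUnion.mpr ⟨i, Finset.mem_univ _, by rw [← hc]; exact hx⟩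
    rw [smul_eq_mul, map_mul, hβ j x hxT, id, map_smul, Algebra.smul_def]
    ring
  refine ⟨D', fun hdq => ?_⟩
  have hmat : (algebraMap A q.ResidueField).mapMatrix (Matrix.of fun i j => D' j (f i)) =
      (algebraMap A q.ResidueField s₀) • (1 : Matrix (Fin m) (Fin m) q.ResidueField) := by
    ext i j
    rw [RingHom.mapMatrix_apply, Matrix.map_apply, Matrix.of_apply, hkey, hΛω, Matrix.smul_apply,
      Matrix.one_apply, smul_eq_mul]
  have hz : algebraMap A q.ResidueField (Matrix.det (Matrix.of fun i j => D' j (f i))) = 0 :=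
    Ideal.algebraMap_residueField_eq_zero.mpr hdq
  rw [RingHom.map_det, hmat, Matrix.det_smul, Matrix.det_one, mul_one] at hz
  exact pow_ne_zero _ hs₀K hz

/-- The Jacobian criterion in linear-independence form, for a prime `q ⊇ I` of a formally
smooth algebra. -/
theorem general [Algebra.FormallySmooth R A] (I q : Ideal A) [q.IsPrime]
    [(q.map (Ideal.Quotient.mk I)).IsPrime] (hIq : I ≤ q) (hfg : I.FG) :
    Algebra.FormallySmooth R (Localization.AtPrime (q.map (Ideal.Quotient.mk I))) ↔
      ∃ s : Finset A, (↑s : Set A) ⊆ (I : Set A) ∧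
        Ideal.map (algebraMap A (Localization.AtPrime q)) I =
          Ideal.span ((algebraMap A (Localization.AtPrime q)) '' (↑s : Set A)) ∧
        LinearIndependent q.ResidueField
          (fun g : ↥s => (1 : q.ResidueField) ⊗ₜ[A] KaehlerDifferential.D R A (g : A)) := by
  classical
  constructor
  · intro h
    obtain ⟨m, f, D, hfI, hgen, hdet⟩ := Groth.Agent.S4580.fwd (R := R) I q hIq hfg
    have hli := linIndep_of_det q f D hdet
    have hinj : Function.Injective f := by
      intro i j hij
      apply hli.injective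
      show (1 : q.ResidueField) ⊗ₜ[A] KaehlerDifferential.D R A (f i) =
        (1 : q.ResidueField) ⊗ₜ[A] KaehlerDifferential.D R A (f j)
      rw [hij]
    let e : Fin m ≃ ↥(Finset.univ.image f) :=
      Equiv.ofBijective (fun i => ⟨f i, Finset.mem_image_of_mem f (Finset.mem_univ i)⟩)
        ⟨fun i j h => hinj (Subtype.ext_iff.mp h), fun ⟨g, hg⟩ => by
          obtain ⟨i, -, rfl⟩ := Finset.mem_image.mp hg
          exact ⟨i, rfl⟩⟩
    refine ⟨Finset.univ.image f, ?_, ?_, ?_⟩
    · intro g hg
      obtain ⟨i, -, rfl⟩ := Finset.mem_image.mp (Finset.mem_coe.mp hg)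
      exact hfI i
    · rw [hgen]
      congr 1
      ext y
      simp only [Set.mem_range, Finset.coe_image, Finset.coe_univ, Set.image_univ, Set.mem_image]
      constructor
      · rintro ⟨i, rfl⟩; exact ⟨f i, ⟨i, rfl⟩, rfl⟩
      · rintro ⟨_, ⟨i, rfl⟩, rfl⟩; exact ⟨i, rfl⟩
    · have hli' : LinearIndependent q.ResidueField
          ((fun g : ↥(Finset.univ.image f) =>
            (1 : q.ResidueField) ⊗ₜ[A] KaehlerDifferential.D R A (g : A)) ∘ e) := hli
      exact (linearIndependent_equiv e).mp hli'
  · rintro ⟨s, hsI, hgen, hli⟩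
    let e : ↥s ≃ Fin s.card := s.equivFin
    let f : Fin s.card → A := fun i => ((e.symm i : ↥s) : A)
    have hli' : LinearIndependent q.ResidueField
        (fun i => (1 : q.ResidueField) ⊗ₜ[A] KaehlerDifferential.D R A (f i)) :=
      (linearIndependent_equiv e.symm).mpr hli
    obtain ⟨D, hdet⟩ := exists_derivations q f hli'
    refine Groth.Agent.S4580.bwd I q hIq f D ?_ hdet
    rw [hgen]
    congr 1
    ext y
    simp only [Set.mem_image, Finset.mem_coe, Set.mem_range]
    constructor
    · rintro ⟨g, hg, rfl⟩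
      exact ⟨e ⟨g, hg⟩, by simp [f]⟩
    · rintro ⟨i, rfl⟩
      exact ⟨_, (e.symm i).2, rfl⟩

end Groth.Agent.Helper26.JacDeriv
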