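import Mathlib
import Groth.Agent.Lib.Helper26.JacDeriv

/-! Jacobian criterion for a hypersurface in an algebra which is smooth at a prime. -/

set_option autoImplicit false
set_option linter.style.haveILetI false
universe u

open TensorProduct Groth.Agent.Helper26.JacobianCrit

namespace Groth.Agent.Helper26.JacHyper

variable {R A : Type u} [CommRing R] [CommRing A] [Algebra R A]

theorem hypersurface_abstract (q : Ideal A) [q.IsPrime] (F : A)
    [Algebra.FormallySmooth R (Localization.AtPrime q)]
    {S : Type u} [CommRing S] [IsLocalRing S] [Algebra R S] [Algebra (Localization.AtPrime q) S]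
    [IsScalarTower R (Localization.AtPrime q) S]
    (hsurj : Function.Surjective (algebraMap (Localization.AtPrime q) S))
    (hker : RingHom.ker (algebraMap (Localization.AtPrime q) S) =
      Ideal.span {algebraMap A (Localization.AtPrime q) F}) :
    Algebra.FormallySmooth R S ↔ algebraMap A (Localization.AtPrime q) F = 0 ∨
      (1 : q.ResidueField) ⊗ₜ[A] KaehlerDifferential.D R A F ≠ 0 := by
  classical
  constructor
  · intro h
    have hfg : (RingHom.ker (algebraMap (Localization.AtPrime q) S)).FG := by
      rw [hker]; exact ⟨{algebraMap A (Localization.AtPrime q) F}, by simp⟩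
    have hjac : RingHom.ker (algebraMap (Localization.AtPrime q) S) ≤ Ideal.jacobson ⊥ := by
      rw [IsLocalRing.jacobson_eq_maximalIdeal ⊥ bot_ne_top]
      exact IsLocalRing.le_maximalIdeal (RingHom.ker_ne_top _)
    have hs : Ideal.span (Set.range fun _ : Unit => algebraMap A (Localization.AtPrime q) F) =
        RingHom.ker (algebraMap (Localization.AtPrime q) S) := by
      rw [hker, Set.range_const]
    obtain ⟨m, a, lam, hlam, hspan⟩ := exists_basis_and_functionals (R := R) hsurj hfg hjac
      (fun _ : Unit => algebraMap A (Localization.AtPrime q) F) hs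
    rcases Nat.eq_zero_or_pos m with hm | hm
    · left
      subst hm
      have hbot : RingHom.ker (algebraMap (Localization.AtPrime q) S) = ⊥ := by
        rw [← hspan]; simp
      have hmem : algebraMap A (Localization.AtPrime q) F ∈
          RingHom.ker (algebraMap (Localization.AtPrime q) S) := by
        rw [hker]; exact Ideal.mem_span_singleton_self _
      rw [hbot] at hmem
      exact (Ideal.mem_bot).mp hmem
    · right
      intro h0
      have h1 := hlam ⟨0, hm⟩ ⟨0, hm⟩
      rw [if_pos rfl] at h1
      letI : Algebra A S := ((algebraMap (Localization.AtPrime q) S).comp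
        (algebraMap A (Localization.AtPrime q))).toAlgebra
      haveI : IsScalarTower A (Localization.AtPrime q) S :=
        IsScalarTower.of_algebraMap_eq (fun _ => rfl)
      haveI : IsLocalHom (algebraMap (Localization.AtPrime q) S) :=
        IsLocalHom.of_surjective _ hsurj
      let Λ : Ω[A⁄R] →ₗ[A] S :=
        (((lam ⟨0, hm⟩).restrictScalars (Localization.AtPrime q)) ∘ₗ
          (TensorProduct.mk (Localization.AtPrime q) S
            Ω[Localization.AtPrime q⁄R] 1)).restrictScalars A ∘ₗ
          (KaehlerDifferential.map R R A (Localization.AtPrime q))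
      have hΛ : Λ (KaehlerDifferential.D R A F) = 1 := by
        show lam ⟨0, hm⟩ ((1 : S) ⊗ₜ[Localization.AtPrime q]
          KaehlerDifferential.map R R A (Localization.AtPrime q)
            (KaehlerDifferential.D R A F)) = 1
        rw [KaehlerDifferential.map_D]
        exact h1
      let Ψ : Ω[A⁄R] →ₗ[A] IsLocalRing.ResidueField S :=
        ((Algebra.linearMap S (IsLocalRing.ResidueField S)).restrictScalars A) ∘ₗ Λ
      have hΨ := congrArg (Ψ.liftBaseChange q.ResidueField) h0
      rw [LinearMap.liftBaseChange_tmul, one_smul, map_zero] at hΨ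
      have hΨ1 : Ψ (KaehlerDifferential.D R A F) = 1 := by
        show algebraMap S (IsLocalRing.ResidueField S) (Λ (KaehlerDifferential.D R A F)) = 1
        rw [hΛ, map_one]
      rw [hΨ1] at hΨ
      exact one_ne_zero hΨ
  · rintro (hF0 | hne)
    · have hinj : Function.Injective (algebraMap (Localization.AtPrime q) S) := by
        rw [RingHom.injective_iff_ker_eq_bot, hker, hF0, Ideal.span_singleton_eq_bot]
      let e : Localization.AtPrime q ≃ₐ[R] S :=
        AlgEquiv.ofBijective (IsScalarTower.toAlgHom R (Localization.AtPrime q) S) ⟨hinj, hsurj⟩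
      exact Algebra.FormallySmooth.of_equiv e
    · obtain ⟨lam0, hlam0⟩ := Module.Projective.exists_dual_eq_one q.ResidueField hne
      let Λ : Ω[A⁄R] →ₗ[A] q.ResidueField :=
        (lam0.restrictScalars A) ∘ₗ (TensorProduct.mk A q.ResidueField Ω[A⁄R] 1)
      have hΛ : Λ (KaehlerDifferential.D R A F) = 1 := hlam0
      let e := KaehlerDifferential.tensorKaehlerEquivOfFormallyEtale R A (Localization.AtPrime q)
      let Λq : Ω[Localization.AtPrime q⁄R] →ₗ[Localization.AtPrime q] q.ResidueField :=
        (Λ.liftBaseChange (Localization.AtPrime q)) ∘ₗ e.symm.toLinearMap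
      have hΛq : Λq (KaehlerDifferential.D R (Localization.AtPrime q)
          (algebraMap A (Localization.AtPrime q) F)) = 1 := by
        simp only [Λq, e, LinearMap.comp_apply, LinearEquiv.coe_coe,
          KaehlerDifferential.tensorKaehlerEquivOfFormallyEtale_symm_D_algebraMap,
          LinearMap.liftBaseChange_tmul, one_smul]
        exact hΛ
      obtain ⟨Λ', hΛ'⟩ := Module.projective_lifting_property
        (Algebra.linearMap (Localization.AtPrime q) q.ResidueField) Λq
        (fun x => IsLocalRing.residue_surjective x)
      obtain ⟨u, hu⟩ : ∃ u, u = Λ' (KaehlerDifferential.D R (Localization.AtPrime q)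
          (algebraMap A (Localization.AtPrime q) F)) := ⟨_, rfl⟩
      have hu1 : IsLocalRing.residue (Localization.AtPrime q) u = 1 := by
        rw [hu]
        have h2 := LinearMap.congr_fun hΛ' (KaehlerDifferential.D R (Localization.AtPrime q)
          (algebraMap A (Localization.AtPrime q) F))
        rw [LinearMap.comp_apply, hΛq] at h2
        exact h2
      have huu : IsUnit u := by
        rw [← IsLocalRing.residue_ne_zero_iff_isUnit, hu1]
        exact one_ne_zero
      let lam : S ⊗[Localization.AtPrime q] Ω[Localization.AtPrime q⁄R] →ₗ[S] S :=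
        ((Algebra.linearMap (Localization.AtPrime q) S) ∘ₗ Λ').liftBaseChange S
      have hlam : lam ((1 : S) ⊗ₜ[Localization.AtPrime q]
          KaehlerDifferential.D R (Localization.AtPrime q)
            (algebraMap A (Localization.AtPrime q) F)) =
          algebraMap (Localization.AtPrime q) S u := by
        simp only [lam, LinearMap.liftBaseChange_tmul, one_smul, LinearMap.comp_apply,
          Algebra.linearMap_apply, hu]
      refine formallySmooth_of_functionals (R := R) hsurj
        (fun _ : Fin 1 => algebraMap A (Localization.AtPrime q) F) ?_ (fun _ => lam) ?_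
      · rw [hker, Set.range_const]
      · have hd : Matrix.det (Matrix.of fun i j : Fin 1 => (fun _ : Fin 1 => lam) j
            ((1 : S) ⊗ₜ[Localization.AtPrime q] KaehlerDifferential.D R (Localization.AtPrime q)
              ((fun _ : Fin 1 => algebraMap A (Localization.AtPrime q) F) i))) =
            algebraMap (Localization.AtPrime q) S u := by
          rw [Matrix.det_fin_one]; exact hlam
        rw [hd]; exact huu.map _

open Groth.Agent.S4580 in
theorem hypersurface (J q : Ideal A) [q.IsPrime] [(q.map (Ideal.Quotient.mk J)).IsPrime]
    (hJq : J ≤ q) (F : A) (hJ : J = Ideal.span {F})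
    [Algebra.FormallySmooth R (Localization.AtPrime q)] :
    Algebra.FormallySmooth R (Localization.AtPrime (q.map (Ideal.Quotient.mk J))) ↔
      algebraMap A (Localization.AtPrime q) F = 0 ∨
        (1 : q.ResidueField) ⊗ₜ[A] KaehlerDifferential.D R A F ≠ 0 := by
  letI : Algebra (Localization.AtPrime q) (Localization.AtPrime (q.map (Ideal.Quotient.mk J))) :=
    (ρ₀ J q hJq).toAlgebra
  have halg : ∀ x, algebraMap (Localization.AtPrime q)
      (Localization.AtPrime (q.map (Ideal.Quotient.mk J))) x = ρ₀ J q hJq x := fun _ => rfl
  haveI : IsScalarTower R (Localization.AtPrime q)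
      (Localization.AtPrime (q.map (Ideal.Quotient.mk J))) :=
    IsScalarTower.of_algebraMap_eq (fun x => by rw [halg, ρ₀_commutes])
  refine hypersurface_abstract (R := R) q F (ρ₀_surjective J q hJq) ?_
  show RingHom.ker (ρ₀ J q hJq) = _
  rw [ker_ρ₀, hJ, Ideal.map_span, Set.image_singleton]

end Groth.Agent.Helper26.JacHyper
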