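import Mathlib

/-!
# Principal open neighbourhoods of `V(J)` (helper26)

* `exists_basicOpen_subset`: an open `U ⊇ V(J)` of `Spec R` contains `D(g)` for some `g ≡ 1 mod J`.
* `quotientMap_away_bijective`: for `g ≡ 1 mod J`, `R/J → R_g / J R_g` is bijective.
-/

set_option autoImplicit false
universe u

namespace Groth.Agent.Helper26.OpenNbhd

theorem exists_basicOpen_subset {R : Type u} [CommRing R] (J : Ideal R)
    (U : Set (PrimeSpectrum R)) (hU : IsOpen U)
    (hJU : PrimeSpectrum.zeroLocus (J : Set R) ⊆ U) :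
    ∃ g : R, g - 1 ∈ J ∧ (PrimeSpectrum.basicOpen g : Set (PrimeSpectrum R)) ⊆ U := by
  obtain ⟨K, hK⟩ := (PrimeSpectrum.isClosed_iff_zeroLocus_ideal Uᶜ).mp hU.isClosed_compl
  have hKJ : K ⊔ J = ⊤ := by
    rw [← PrimeSpectrum.zeroLocus_empty_iff_eq_top, PrimeSpectrum.zeroLocus_sup, ← hK,
      Set.eq_empty_iff_forall_notMem]
    rintro x ⟨hx1, hx2⟩
    exact hx1 (hJU hx2)
  obtain ⟨k, hk, j, hj, hkj⟩ := Submodule.mem_sup.mp ((Ideal.eq_top_iff_one _).mp hKJ)
  refine ⟨k, ?_, ?_⟩
  · have : k - 1 = -j := by rw [← hkj]; ring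
    rw [this]; exact neg_mem hj
  · intro x hx
    by_contra hxU
    have hx' : x ∈ PrimeSpectrum.zeroLocus (K : Set R) := by rw [← hK]; exact hxU
    exact hx (hx' hk)

theorem quotientMap_away_bijective {R : Type u} [CommRing R] (J : Ideal R) (g : R)
    (hg : g - 1 ∈ J) :
    Function.Bijective (Ideal.quotientMap (J.map (algebraMap R (Localization.Away g)))
      (algebraMap R (Localization.Away g)) Ideal.le_comap_map) := by
  have hunit : IsUnit (Ideal.Quotient.mk J g) := by
    have : Ideal.Quotient.mk J g = 1 := by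
      rw [← map_one (Ideal.Quotient.mk J), Ideal.Quotient.eq]; exact hg
    rw [this]; exact isUnit_one
  obtain ⟨ψ₀, hψ₀⟩ : ∃ ψ₀ : Localization.Away g →+* R ⧸ J,
      ∀ r, ψ₀ (algebraMap R _ r) = Ideal.Quotient.mk J r :=
    ⟨IsLocalization.Away.lift g hunit, fun r => IsLocalization.Away.lift_eq g hunit r⟩
  have hle : J.map (algebraMap R (Localization.Away g)) ≤ RingHom.ker ψ₀ := by
    rw [Ideal.map_le_iff_le_comap]
    intro j hj
    rw [Ideal.mem_comap, RingHom.mem_ker, hψ₀]
    exact Ideal.Quotient.eq_zero_iff_mem.mpr hj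
  obtain ⟨ψ, hψ⟩ : ∃ ψ : (Localization.Away g ⧸ J.map (algebraMap R (Localization.Away g))) →+*
      R ⧸ J, ∀ z, ψ (Ideal.Quotient.mk _ z) = ψ₀ z :=
    ⟨Ideal.Quotient.lift _ ψ₀ (fun x hx => hle hx), fun z => Ideal.Quotient.lift_mk _ _ _⟩
  refine Function.bijective_iff_has_inverse.mpr ⟨ψ, ?_, ?_⟩
  · intro x
    obtain ⟨r, rfl⟩ := Ideal.Quotient.mk_surjective x
    rw [Ideal.quotientMap_mk, hψ, hψ₀]
  · intro y
    obtain ⟨z, rfl⟩ := Ideal.Quotient.mk_surjective y
    have h2 : (Ideal.quotientMap (J.map (algebraMap R (Localization.Away g)))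
        (algebraMap R (Localization.Away g)) Ideal.le_comap_map).comp
        (ψ.comp (Ideal.Quotient.mk _)) =
        Ideal.Quotient.mk (J.map (algebraMap R (Localization.Away g))) := by
      apply IsLocalization.ringHom_ext (Submonoid.powers g)
      ext r
      simp only [RingHom.comp_apply]
      rw [hψ, hψ₀, Ideal.quotientMap_mk]
    exact RingHom.congr_fun h2 z

end Groth.Agent.Helper26.OpenNbhd
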