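import Mathlib

/-!
# Smooth algebras over regular rings are regular

* `H26.isRegularRing_of_etale` : an étale algebra over a regular ring is regular.
* `H26.isRegularRing_of_smooth` : a smooth algebra over a regular ring is regular.
-/

set_option autoImplicit false
set_option linter.style.haveILetI false

universe u

namespace H26

open IsLocalRing

/-- An étale algebra over a regular ring is a regular ring. -/
theorem isRegularRing_of_etale (R S : Type u) [CommRing R] [CommRing S] [Algebra R S]
    [IsRegularRing R] [Algebra.Etale R S] : IsRegularRing S := by
  haveI : IsNoetherianRing S := Algebra.FiniteType.isNoetherianRing R S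
  rw [isRegularRing_iff]
  intro q hq
  haveI : (q.under R).IsPrime := inferInstance
  haveI : q.LiesOver (q.under R) := ⟨rfl⟩
  letI := Localization.AtPrime.algebraOfLiesOver (q.under R) q
  haveI : IsNoetherianRing (Localization.AtPrime q) :=
    IsLocalization.isNoetherianRing q.primeCompl _ inferInstance
  apply IsRegularLocalRing.of_spanFinrank_maximalIdeal_le
  haveI : Algebra.FormallyUnramified S (Localization.AtPrime q) :=
    Algebra.FormallyUnramified.of_isLocalization q.primeCompl
  haveI : Algebra.IsUnramifiedAt R q := Algebra.FormallyUnramified.comp R S _
  have hmap : (q.under R).map (algebraMap R (Localization.AtPrime q)) = maximalIdeal _ :=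
    ((Algebra.isUnramifiedAt_iff_map_eq R (q.under R) q).mp inferInstance).2
  have hmap' : (maximalIdeal (Localization.AtPrime (q.under R))).map
      (algebraMap _ (Localization.AtPrime q)) = maximalIdeal _ := by
    rw [← hmap, ← Localization.AtPrime.map_eq_maximalIdeal, Ideal.map_map,
      ← IsScalarTower.algebraMap_eq]
  have h1 : (maximalIdeal (Localization.AtPrime q)).spanFinrank ≤
      (maximalIdeal (Localization.AtPrime (q.under R))).spanFinrank := by
    rw [← hmap']
    exact Ideal.spanFinrank_map_le_of_fg _ (IsNoetherian.noetherian _)
  have h2 : ((maximalIdeal (Localization.AtPrime (q.under R))).spanFinrank : WithBot ℕ∞) =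
      ringKrullDim (Localization.AtPrime (q.under R)) :=
    IsRegularLocalRing.spanFinrank_maximalIdeal
  have h3 : ringKrullDim (Localization.AtPrime (q.under R)) = (q.under R).height :=
    IsLocalization.AtPrime.ringKrullDim_eq_height _ _
  have h4 : ringKrullDim (Localization.AtPrime q) = q.height :=
    IsLocalization.AtPrime.ringKrullDim_eq_height _ _
  have h5 : (q.under R).height ≤ q.height := by
    rw [Ideal.height_eq_height_add_of_liesOver_of_hasGoingDown (q.under R) q]
    exact le_self_add
  calc ((maximalIdeal (Localization.AtPrime q)).spanFinrank : WithBot ℕ∞)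
      ≤ (maximalIdeal (Localization.AtPrime (q.under R))).spanFinrank := by exact_mod_cast h1
    _ = (q.under R).height := by rw [h2, h3]
    _ ≤ q.height := by exact_mod_cast h5
    _ = ringKrullDim _ := h4.symm

/-- A smooth algebra over a regular ring is a regular ring. -/
theorem isRegularRing_of_smooth (R S : Type u) [CommRing R] [CommRing S] [Algebra R S]
    [IsRegularRing R] [Algebra.Smooth R S] : IsRegularRing S := by
  haveI : IsNoetherianRing S := Algebra.FiniteType.isNoetherianRing R S
  rw [isRegularRing_iff]
  intro q hq
  haveI : Algebra.FormallySmooth S (Localization.AtPrime q) :=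
    Algebra.FormallySmooth.of_isLocalization q.primeCompl
  haveI : Algebra.IsSmoothAt R q := Algebra.FormallySmooth.comp R S _
  obtain ⟨f, hf, n, _, _, hstd⟩ :=
    Algebra.IsSmoothAt.exists_isStandardEtale_mvPolynomial (R := R) (p := q)
  haveI : Algebra.Etale (MvPolynomial (Fin n) R) (Localization.Away f) := inferInstance
  haveI : IsRegularRing (Localization.Away f) :=
    isRegularRing_of_etale (MvPolynomial (Fin n) R) _
  have hdisj : Disjoint (Submonoid.powers f : Set S) (q : Set S) :=
    (Ideal.disjoint_powers_iff_notMem_of_isPrime _).mpr hf
  haveI hq'p : (q.map (algebraMap S (Localization.Away f))).IsPrime :=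
    IsLocalization.isPrime_of_isPrime_disjoint (.powers f) _ _ hq hdisj
  have hq' : (q.map (algebraMap S (Localization.Away f))).comap
      (algebraMap S (Localization.Away f)) = q :=
    IsLocalization.comap_map_of_isPrime_disjoint (.powers f) _ hq hdisj
  have h1 : IsLocalization ((q.map (algebraMap S (Localization.Away f))).comap
      (algebraMap S (Localization.Away f))).primeCompl
      (Localization.AtPrime (q.map (algebraMap S (Localization.Away f)))) :=
    IsLocalization.isLocalization_atPrime_localization_atPrime (Submonoid.powers f) _
  have h2 : ((q.map (algebraMap S (Localization.Away f))).comap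
      (algebraMap S (Localization.Away f))).primeCompl = q.primeCompl :=
    Submonoid.ext fun x => by rw [Ideal.mem_primeCompl_iff, Ideal.mem_primeCompl_iff, hq']
  rw [h2] at h1
  haveI := h1
  exact IsRegularLocalRing.of_ringEquiv (IsLocalization.algEquiv q.primeCompl
    (Localization.AtPrime (q.map (algebraMap S (Localization.Away f))))
    (Localization.AtPrime q)).toRingEquiv

end H26
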