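import Mathlib

/-!
# Primes with trivial residue field extension

Helper lemmas about pairs `(S, q)` with `S` an `R`-algebra and `q` a prime of `S` over a prime `p`
of `R` such that `κ(p) → κ(q)` is bijective.
-/

set_option linter.style.haveILetI false

namespace Groth.Agent.Helper26.ResiduePairs

universe u

variable {R : Type u} [CommRing R] (p : Ideal R) [p.IsPrime]

/-- The kernel of an `R`-algebra map `S → κ(p)` is a prime over `p` with trivial residue field
extension. -/
theorem ker_residue_bijective {S : Type u} [CommRing S] [Algebra R S]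
    (χ : S →ₐ[R] p.ResidueField) :
    ∃ (h₁ : (RingHom.ker χ).IsPrime) (hq : p = (RingHom.ker χ).comap (algebraMap R S)),
      Function.Bijective (Ideal.ResidueField.map p (RingHom.ker χ) (algebraMap R S) hq) := by
  have h₁ : (RingHom.ker χ).IsPrime := RingHom.ker_isPrime χ
  have hq : p = (RingHom.ker χ).comap (algebraMap R S) := by
    ext r
    rw [Ideal.mem_comap, RingHom.mem_ker, AlgHom.commutes, Ideal.algebraMap_residueField_eq_zero]
  refine ⟨h₁, hq, ?_⟩
  let φ' : (RingHom.ker χ).ResidueField →+* p.ResidueField :=
    Ideal.ResidueField.lift (RingHom.ker χ) (χ : S →+* p.ResidueField) le_rfl (by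
      intro x hx
      rw [Submonoid.mem_comap, IsUnit.mem_submonoid_iff]
      exact isUnit_iff_ne_zero.mpr fun h => hx (RingHom.mem_ker.mpr h))
  have hcomp : φ'.comp (Ideal.ResidueField.map p (RingHom.ker χ) (algebraMap R S) hq) =
      RingHom.id _ := by
    refine Ideal.ResidueField.ringHom_ext (RingHom.ext fun r => ?_)
    simp only [RingHom.comp_apply, RingHom.id_apply]
    rw [Ideal.ResidueField.map_algebraMap, Ideal.ResidueField.lift_algebraMap]
    exact χ.commutes r
  refine ⟨RingHom.injective _, fun y => ⟨φ' y, ?_⟩⟩
  apply φ'.injective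
  exact RingHom.congr_fun hcomp (φ' y)

/-- For a prime `q` of `S` over `p` with trivial residue field extension, the `R`-algebra map
`S → κ(q) ≃ κ(p)`, whose kernel is `q`. -/
theorem exists_toResidue {S : Type u} [CommRing S] [Algebra R S] (q : Ideal S) [q.IsPrime]
    (hq : p = q.comap (algebraMap R S))
    (hκ : Function.Bijective (Ideal.ResidueField.map p q (algebraMap R S) hq)) :
    ∃ ι : S →ₐ[R] p.ResidueField, RingHom.ker ι = q := by
  let e : p.ResidueField ≃+* q.ResidueField := RingEquiv.ofBijective _ hκ
  refine ⟨{ toRingHom := (e.symm : q.ResidueField →+* p.ResidueField).comp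
              (algebraMap S q.ResidueField)
            commutes' := fun r => ?_ }, ?_⟩
  · change e.symm (algebraMap S q.ResidueField (algebraMap R S r)) = algebraMap R p.ResidueField r
    rw [RingEquiv.symm_apply_eq]
    exact (Ideal.ResidueField.map_algebraMap p q (algebraMap R S) hq r).symm
  · ext x
    rw [RingHom.mem_ker]
    change e.symm (algebraMap S q.ResidueField x) = 0 ↔ x ∈ q
    rw [map_eq_zero_iff _ e.symm.injective, Ideal.algebraMap_residueField_eq_zero]

end Groth.Agent.Helper26.ResiduePairs
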