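import Mathlib

/-!
# Splitting algebras of monic polynomials (helper26)

* `H26.exists_splitting`: a monic polynomial over a commutative ring `A` splits into linear factors
  over some finite free `A`-algebra `B` (in the same universe), nontrivial if `A` is.
* `H26.exists_root_of_dvd_prod`: over a field, a non-constant divisor of a product of linear factors
  has one of them as a root.
-/

set_option linter.style.haveILetI false

namespace H26

open Polynomial

universe u

theorem exists_splitting (n : ℕ) : ∀ (A : Type u) [CommRing A] (f : A[X]), f.Monic →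
    f.natDegree = n →
    ∃ (B : Type u) (_ : CommRing B) (_ : Algebra A B), Module.Free A B ∧ Module.Finite A B ∧
      (Nontrivial A → Nontrivial B) ∧
      ∃ s : Multiset B, f.map (algebraMap A B) = (s.map fun b => X - C b).prod := by
  induction n with
  | zero =>
    intro A _ f hf hdeg
    refine ⟨A, inferInstance, inferInstance, inferInstance, inferInstance, id, 0, ?_⟩
    rw [Multiset.map_zero, Multiset.prod_zero, (Polynomial.Monic.natDegree_eq_zero hf).mp hdeg,
      Polynomial.map_one]
  | succ n ih =>
    intro A _ f hf hdeg
    rcases subsingleton_or_nontrivial A with hA | hA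
    · exact ⟨A, inferInstance, inferInstance, inferInstance, inferInstance, id, 0,
        Subsingleton.elim _ _⟩
    · let pb := AdjoinRoot.powerBasis' hf
      haveI : Module.Free A (AdjoinRoot f) := Module.Free.of_basis pb.basis
      haveI : Module.Finite A (AdjoinRoot f) := pb.finite
      have hdim : pb.dim = n + 1 := by rw [AdjoinRoot.powerBasis'_dim, hdeg]
      haveI : Nontrivial (AdjoinRoot f) := by
        have hpos : 0 < pb.dim := by omega
        exact nontrivial_of_ne (pb.basis ⟨0, hpos⟩) 0 (pb.basis.ne_zero _)
      set r : AdjoinRoot f := AdjoinRoot.root f with hr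
      have hf' : (f.map (algebraMap A (AdjoinRoot f))).Monic := hf.map _
      have hroot : (f.map (algebraMap A (AdjoinRoot f))).IsRoot r := by
        rw [Polynomial.IsRoot, Polynomial.eval_map, AdjoinRoot.algebraMap_eq]
        exact AdjoinRoot.eval₂_root f
      set f₁ : (AdjoinRoot f)[X] := f.map (algebraMap A (AdjoinRoot f)) /ₘ (X - C r) with hf₁def
      have hmul : (X - C r) * f₁ = f.map (algebraMap A (AdjoinRoot f)) :=
        Polynomial.mul_divByMonic_eq_iff_isRoot.mpr hroot
      have hf₁ : f₁.Monic :=
        Polynomial.Monic.of_mul_monic_left (Polynomial.monic_X_sub_C r) (hmul ▸ hf')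
      have hdeg₁ : f₁.natDegree = n := by
        have h1 : (f.map (algebraMap A (AdjoinRoot f))).natDegree = n + 1 := by
          rw [hf.natDegree_map, hdeg]
        have h2 := (Polynomial.monic_X_sub_C r).natDegree_mul hf₁
        rw [hmul, h1, Polynomial.natDegree_X_sub_C] at h2
        omega
      obtain ⟨B, _, _, hfree, hfin, hnt, s, hs⟩ := ih (AdjoinRoot f) f₁ hf₁ hdeg₁
      letI : Algebra A B := ((algebraMap (AdjoinRoot f) B).comp (algebraMap A (AdjoinRoot f))).toAlgebra
      haveI : IsScalarTower A (AdjoinRoot f) B := IsScalarTower.of_algebraMap_eq' rfl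
      refine ⟨B, inferInstance, inferInstance, Module.Free.trans (S := AdjoinRoot f),
        Module.Finite.trans (AdjoinRoot f) B, fun _ => hnt inferInstance,
        algebraMap (AdjoinRoot f) B r ::ₘ s, ?_⟩
      rw [Multiset.map_cons, Multiset.prod_cons, ← hs, IsScalarTower.algebraMap_eq A (AdjoinRoot f) B,
        ← Polynomial.map_map, ← hmul, Polynomial.map_mul, Polynomial.map_sub, Polynomial.map_X,
        Polynomial.map_C]

theorem exists_root_of_dvd_prod {K : Type*} [Field K] (p : K[X]) (hp : p.natDegree ≠ 0)
    (s : Multiset K) (h : p ∣ (s.map fun a => X - C a).prod) : ∃ a ∈ s, p.eval a = 0 := by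
  induction s using Multiset.induction_on with
  | empty =>
    rw [Multiset.map_zero, Multiset.prod_zero] at h
    exact absurd (Polynomial.natDegree_eq_zero_of_isUnit (isUnit_of_dvd_one h)) hp
  | cons a s ih =>
    rw [Multiset.map_cons, Multiset.prod_cons] at h
    by_cases hd : (X - C a) ∣ p
    swap
    · have hc : IsCoprime (X - C a) p :=
        (Polynomial.irreducible_X_sub_C a).coprime_iff_not_dvd.mpr hd
      obtain ⟨b, hb, hb0⟩ := ih (hc.symm.dvd_of_dvd_mul_left h)
      exact ⟨b, Multiset.mem_cons_of_mem hb, hb0⟩
    · exact ⟨a, Multiset.mem_cons_self a s, Polynomial.dvd_iff_isRoot.mp hd⟩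

end H26
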