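import Mathlib

/-!
# Support of a base-changed finite module (helper26)

`H26.mem_support_baseChange_iff`: for a finite `B`-module `N` and a `B`-algebra `F`, a prime `x` of
`F` is in the support of `F ⊗[B] N` iff its contraction to `B` is in the support of `N`.
-/

open TensorProduct

set_option linter.style.haveILetI false

namespace H26

theorem mem_support_baseChange_iff {B F : Type*} [CommRing B] [CommRing F] [Algebra B F]
    (N : Type*) [AddCommGroup N] [Module B N] [Module.Finite B N] (x : PrimeSpectrum F) :
    x ∈ Module.support F (F ⊗[B] N) ↔
      PrimeSpectrum.comap (algebraMap B F) x ∈ Module.support B N := by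
  rw [Module.mem_support_iff_nontrivial_residueField_tensorProduct,
    Module.mem_support_iff_nontrivial_residueField_tensorProduct]
  set y := PrimeSpectrum.comap (algebraMap B F) x with hy
  letI : Algebra y.asIdeal.ResidueField x.asIdeal.ResidueField :=
    (Ideal.ResidueField.map y.asIdeal x.asIdeal (algebraMap B F) rfl).toAlgebra
  haveI : IsScalarTower B y.asIdeal.ResidueField x.asIdeal.ResidueField :=
    IsScalarTower.of_algebraMap_eq' (by
      ext b
      rw [RingHom.comp_apply, RingHom.algebraMap_toAlgebra, Ideal.ResidueField.map_algebraMap,
        IsScalarTower.algebraMap_apply B F x.asIdeal.ResidueField])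
  let e₁ := AlgebraTensorModule.cancelBaseChange B F x.asIdeal.ResidueField
    x.asIdeal.ResidueField N
  let e₂ := AlgebraTensorModule.cancelBaseChange B y.asIdeal.ResidueField
    x.asIdeal.ResidueField x.asIdeal.ResidueField N
  rw [e₁.nontrivial_congr, ← e₂.nontrivial_congr]
  constructor
  · intro h
    by_contra hn
    rw [not_nontrivial_iff_subsingleton] at hn
    have : Subsingleton (x.asIdeal.ResidueField ⊗[y.asIdeal.ResidueField]
        (y.asIdeal.ResidueField ⊗[B] N)) := by
      have h0 : ∀ c : x.asIdeal.ResidueField ⊗[y.asIdeal.ResidueField]
          (y.asIdeal.ResidueField ⊗[B] N), c = 0 := by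
        intro c
        induction c using TensorProduct.induction_on with
        | zero => rfl
        | tmul u v => rw [Subsingleton.elim v 0, TensorProduct.tmul_zero]
        | add c d hc hd => rw [hc, hd, add_zero]
      exact ⟨fun a b => by rw [h0 a, h0 b]⟩
    exact not_nontrivial _ h
  · intro h
    haveI := h
    infer_instance

end H26
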