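import Mathlib
import Groth.Agent.S9452

/-! Decomposition of the base change of an unramified algebra along an étale neighbourhood
(Stacks 04GL style), by induction on the dimension of the fibre, using `S9452`. -/

set_option autoImplicit false
set_option linter.style.haveILetI false
universe u

open TensorProduct

namespace Groth.Agent.Helper26.UnramDecomp

/-- The target predicate, with the surjective factors written as quotients. -/
def Good (R₀ : Type u) [CommRing R₀] (T : Type u) [CommRing T] [Algebra R₀ T]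
    (p₀ : Ideal R₀) : Prop :=
  ∃ (R' : Type u) (_ : CommRing R') (_ : Algebra R₀ R') (_ : Algebra.Etale R₀ R') (p' : Ideal R')
    (_ : p'.IsPrime) (_ : p'.LiesOver p₀) (n : ℕ) (I : Fin n → Ideal R') (B : Type u)
    (_ : CommRing B) (_ : Algebra R' B),
    (∀ i, I i ≤ p') ∧ Nonempty ((R' ⊗[R₀] T) ≃ₐ[R'] ((∀ i, R' ⧸ I i) × B)) ∧
      ∀ (q : Ideal B) [q.IsPrime], q.comap (algebraMap R' B) ≠ p'

section Equivs

variable (R' : Type u) [CommRing R']

/-- Splitting off the zeroth factor of a product over `Fin (n+1)`. -/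
noncomputable def unconsAlgEquiv {n : ℕ} (α : Fin (n + 1) → Type u) [∀ i, CommRing (α i)]
    [∀ i, Algebra R' (α i)] :
    (∀ i, α i) ≃ₐ[R'] (α 0 × (∀ i : Fin n, α i.succ)) :=
  AlgEquiv.ofBijective
    (AlgHom.prod (Pi.evalAlgHom R' α 0)
      (Pi.algHom R' (fun i : Fin n => α i.succ) (fun i => Pi.evalAlgHom R' α i.succ)))
    ⟨fun f g h => by
      funext i
      refine Fin.cases ?_ (fun j => ?_) i
      · exact congrArg Prod.fst h
      · exact congrFun (congrArg Prod.snd h) j,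
     fun ⟨a, f⟩ => ⟨Fin.cons a f, by
      refine Prod.ext ?_ ?_
      · show Fin.cons (α := α) a f 0 = a
        exact Fin.cons_zero _ _
      · funext j
        show Fin.cons (α := α) a f j.succ = f j
        exact Fin.cons_succ _ _ _⟩⟩

theorem cons_equiv (I₀ : Ideal R') {n : ℕ} (I : Fin n → Ideal R') :
    Nonempty (((R' ⧸ I₀) × (∀ i, R' ⧸ I i)) ≃ₐ[R']
      (∀ i : Fin (n + 1), R' ⧸ (Fin.cons I₀ I : Fin (n + 1) → Ideal R') i)) :=
  ⟨((unconsAlgEquiv R' (fun i => R' ⧸ (Fin.cons I₀ I : Fin (n + 1) → Ideal R') i)).trans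
    (AlgEquiv.prodCongr (Ideal.quotientEquivAlgOfEq R' (Fin.cons_zero _ _))
      (AlgEquiv.piCongrRight fun _ => Ideal.quotientEquivAlgOfEq R' (Fin.cons_succ _ _ _)))).symm⟩

/-- Associativity of binary products of algebras. -/
noncomputable def prodAssocSymm (X Y Z : Type u) [CommRing X] [CommRing Y] [CommRing Z]
    [Algebra R' X] [Algebra R' Y] [Algebra R' Z] :
    (X × (Y × Z)) ≃ₐ[R'] ((X × Y) × Z) :=
  AlgEquiv.ofAlgHom
    (AlgHom.prod (AlgHom.prod (AlgHom.fst R' X (Y × Z))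
      ((AlgHom.fst R' Y Z).comp (AlgHom.snd R' X (Y × Z))))
      ((AlgHom.snd R' Y Z).comp (AlgHom.snd R' X (Y × Z))))
    (AlgHom.prod ((AlgHom.fst R' X Y).comp (AlgHom.fst R' (X × Y) Z))
      (AlgHom.prod ((AlgHom.snd R' X Y).comp (AlgHom.fst R' (X × Y) Z))
        (AlgHom.snd R' (X × Y) Z)))
    (AlgHom.ext fun _ => rfl) (AlgHom.ext fun _ => rfl)

end Equivs

section Measure

variable (R₀ : Type u) [CommRing R₀] (T : Type u) [CommRing T] [Algebra R₀ T]
  (R₁ : Type u) [CommRing R₁] [Algebra R₀ R₁] (p₀ : Ideal R₀) [p₀.IsPrime]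
  (p₁ : Ideal R₁) [p₁.IsPrime] [p₁.LiesOver p₀]

theorem finrank_fiber_baseChange :
    Module.finrank p₁.ResidueField (p₁.Fiber (R₁ ⊗[R₀] T)) =
      Module.finrank p₀.ResidueField (p₀.Fiber T) := by
  let := Localization.AtPrime.algebraOfLiesOver p₀ p₁
  let e : p₁.Fiber (R₁ ⊗[R₀] T) ≃ₐ[p₁.ResidueField]
      p₁.ResidueField ⊗[p₀.ResidueField] (p₀.Fiber T) :=
    (Algebra.TensorProduct.cancelBaseChange _ _ _ _ _).trans
      (Algebra.TensorProduct.cancelBaseChange _ _ _ _ _).symm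
  rw [e.toLinearEquiv.finrank_eq, Module.finrank_baseChange]

theorem measure_lt [Algebra.QuasiFinite R₀ T] {A B₁ : Type u} [CommRing A] [CommRing B₁]
    [Algebra R₁ A] [Algebra R₁ B₁] (e : (R₁ ⊗[R₀] T) ≃ₐ[R₁] (A × B₁))
    (hA : Nontrivial (p₁.Fiber A)) :
    Module.finrank p₁.ResidueField (p₁.Fiber B₁) <
      Module.finrank p₀.ResidueField (p₀.Fiber T) := by
  rw [← finrank_fiber_baseChange R₀ T R₁ p₀ p₁]
  let φ : p₁.Fiber (R₁ ⊗[R₀] T) ≃ₗ[p₁.ResidueField] (p₁.Fiber A) × (p₁.Fiber B₁) :=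
    ((Algebra.TensorProduct.congr (AlgEquiv.refl : p₁.ResidueField ≃ₐ[p₁.ResidueField] _) e).trans
      (Algebra.TensorProduct.prodRight R₁ p₁.ResidueField p₁.ResidueField A B₁)).toLinearEquiv
  haveI : Module.Finite p₁.ResidueField (p₁.Fiber (R₁ ⊗[R₀] T)) := inferInstance
  haveI : Module.Finite p₁.ResidueField ((p₁.Fiber A) × (p₁.Fiber B₁)) := Module.Finite.equiv φ
  haveI : Module.Finite p₁.ResidueField (p₁.Fiber A) :=
    Module.Finite.of_surjective (LinearMap.fst p₁.ResidueField (p₁.Fiber A) (p₁.Fiber B₁))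
      LinearMap.fst_surjective
  haveI : Module.Finite p₁.ResidueField (p₁.Fiber B₁) :=
    Module.Finite.of_surjective (LinearMap.snd p₁.ResidueField (p₁.Fiber A) (p₁.Fiber B₁))
      LinearMap.snd_surjective
  rw [φ.finrank_eq, Module.finrank_prod]
  have : 0 < Module.finrank p₁.ResidueField (p₁.Fiber A) := Module.finrank_pos
  omega

end Measure

theorem nontrivial_fiber {R₁ A : Type u} [CommRing R₁] [CommRing A] [Algebra R₁ A]
    (p₁ : Ideal R₁) [p₁.IsPrime] (PA : Ideal A) [hPA : PA.IsPrime]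
    (h : PA.comap (algebraMap R₁ A) = p₁) : Nontrivial (p₁.Fiber A) := by
  have hQ : (⟨PA, hPA⟩ : PrimeSpectrum A) ∈
      PrimeSpectrum.comap (algebraMap R₁ A) ⁻¹' {(⟨p₁, inferInstance⟩ : PrimeSpectrum R₁)} := by
    rw [Set.mem_preimage, Set.mem_singleton_iff]
    exact PrimeSpectrum.ext h
  exact (PrimeSpectrum.preimageEquivFiber R₁ A ⟨p₁, inferInstance⟩ ⟨_, hQ⟩).nontrivial

theorem aux : ∀ (d : ℕ) (R₀ : Type u) [CommRing R₀] (T : Type u) [CommRing T] [Algebra R₀ T]
    [Algebra.Unramified R₀ T] (p₀ : Ideal R₀) [p₀.IsPrime],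
    Module.finrank p₀.ResidueField (p₀.Fiber T) = d → Good R₀ T p₀ := by
  intro d
  induction d using Nat.strong_induction_on with
  | _ d ih =>
    intro R₀ _ T _ _ _ p₀ _ hd
    by_cases hex : ∃ q : Ideal T, q.IsPrime ∧ q.under R₀ = p₀
    · obtain ⟨q, hq, hqp⟩ := hex
      subst hqp
      obtain ⟨R₁, _, _, _, p₁, _, _, A, _, _, B₁, _, _, e, hsurjA, hprimeA, hcomapA, -⟩ :=
        Groth.Agent.S9452.result R₀ T q
      -- `B₁` is unramified over `R₁`
      haveI : Algebra.Unramified R₁ B₁ := by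
        have hg : Function.Surjective ((AlgHom.snd R₁ A B₁).comp e.toAlgHom) :=
          (Prod.snd_surjective).comp e.surjective
        exact { formallyUnramified := Algebra.FormallyUnramified.of_surjective _ hg
                finiteType := Algebra.FiniteType.of_surjective _ hg }
      have hA : Nontrivial (p₁.Fiber A) :=
        nontrivial_fiber p₁ (p₁.map (algebraMap R₁ A)) hcomapA
      have hlt := measure_lt R₀ T R₁ (q.under R₀) p₁ e hA
      rw [hd] at hlt
      obtain ⟨R₂, _, _, _, p₂, _, _, n, I, B₂, _, _, hI, ⟨e₂⟩, hB₂⟩ := ih _ hlt R₁ B₁ p₁ rfl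
      letI : Algebra R₀ R₂ := ((algebraMap R₁ R₂).comp (algebraMap R₀ R₁)).toAlgebra
      haveI : IsScalarTower R₀ R₁ R₂ := IsScalarTower.of_algebraMap_eq (fun _ => rfl)
      haveI : Algebra.Etale R₀ R₂ := Algebra.Etale.comp R₀ R₁ R₂
      haveI : p₂.LiesOver (q.under R₀) := Ideal.LiesOver.trans p₂ p₁ (q.under R₀)
      have hsurjA' : Function.Surjective (Algebra.ofId R₁ A) := hsurjA
      obtain ⟨IA, hIA⟩ : ∃ IA : Ideal R₁, IA = RingHom.ker (Algebra.ofId R₁ A) := ⟨_, rfl⟩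
      have hIAp : IA ≤ p₁ := by
        intro x hx
        rw [← hcomapA, Ideal.mem_comap]
        rw [hIA, RingHom.mem_ker] at hx
        have hx' : algebraMap R₁ A x = 0 := hx
        rw [hx']; exact zero_mem _
      have hI₀ : IA.map (algebraMap R₁ R₂) ≤ p₂ := by
        rw [Ideal.map_le_iff_le_comap]
        have : p₂.comap (algebraMap R₁ R₂) = p₁ := (Ideal.over_def p₂ p₁).symm
        rw [this]; exact hIAp
      obtain ⟨c7⟩ := cons_equiv R₂ (IA.map (algebraMap R₁ R₂)) I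
      refine ⟨R₂, inferInstance, inferInstance, inferInstance, p₂, inferInstance, inferInstance,
        n + 1, Fin.cons (IA.map (algebraMap R₁ R₂)) I, B₂, inferInstance, inferInstance, ?_, ⟨?_⟩,
        hB₂⟩
      · intro i
        refine Fin.cases ?_ (fun j => ?_) i
        · rw [Fin.cons_zero]; exact hI₀
        · rw [Fin.cons_succ]; exact hI j
      · let c1 : R₂ ⊗[R₀] T ≃ₐ[R₂] R₂ ⊗[R₁] (R₁ ⊗[R₀] T) :=
          (Algebra.TensorProduct.cancelBaseChange R₀ R₁ R₂ R₂ T).symm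
        let c2 : R₂ ⊗[R₁] (R₁ ⊗[R₀] T) ≃ₐ[R₂] R₂ ⊗[R₁] (A × B₁) :=
          Algebra.TensorProduct.congr AlgEquiv.refl e
        let c3 : R₂ ⊗[R₁] (A × B₁) ≃ₐ[R₂] (R₂ ⊗[R₁] A) × (R₂ ⊗[R₁] B₁) :=
          Algebra.TensorProduct.prodRight R₁ R₂ R₂ A B₁
        let eA : A ≃ₐ[R₁] R₁ ⧸ IA :=
          ((Ideal.quotientEquivAlgOfEq R₁ hIA).trans
            (Ideal.quotientKerAlgEquivOfSurjective hsurjA')).symm
        let c4 : R₂ ⊗[R₁] A ≃ₐ[R₂] R₂ ⧸ IA.map (algebraMap R₁ R₂) :=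
          (Algebra.TensorProduct.congr AlgEquiv.refl eA).trans
            (Algebra.TensorProduct.quotIdealMapEquivTensorQuot R₂ IA).symm
        let c5 := AlgEquiv.prodCongr c4 e₂
        let c6 := prodAssocSymm R₂ (R₂ ⧸ IA.map (algebraMap R₁ R₂)) (∀ i, R₂ ⧸ I i) B₂
        exact c1.trans (c2.trans (c3.trans (c5.trans (c6.trans
          (AlgEquiv.prodCongr c7 AlgEquiv.refl)))))
    · refine ⟨R₀, inferInstance, inferInstance, inferInstance, p₀, inferInstance, ?_, 0,
        fun i => i.elim0, T, inferInstance, inferInstance, fun i => i.elim0, ⟨?_⟩, ?_⟩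
      · exact ⟨by simp [Ideal.under]⟩
      · exact (Algebra.TensorProduct.lid R₀ T).trans
          (AlgEquiv.ofBijective
            (AlgHom.prod (Pi.algHom R₀ (fun i : Fin 0 => R₀ ⧸ (Fin.elim0 i : Ideal R₀))
              (fun i => i.elim0)) (AlgHom.id R₀ T))
            ⟨fun a b h => congrArg Prod.snd h,
             fun ⟨f, t⟩ => ⟨t, Prod.ext (Subsingleton.elim _ _) rfl⟩⟩)
      · intro q hq hqp
        exact hex ⟨q, hq, hqp⟩

end Groth.Agent.Helper26.UnramDecomp
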